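import Cfsg.Agent.Lib.FFComp.Replace
import Cfsg.Agent.Lib.Classical.LowRank.Index

/-!
# One block and the central involution of a group with an offender, odd characteristic
-/

set_option autoImplicit false
set_option linter.unusedSectionVars false

namespace Cfsg.Agent.Lib.FocalChar

open Subgroup SL2Recog FFMin FFComp Matrix
open scoped Pointwise
open Cfsg.Agent.Lib.SL2 (SLtwo)

universe u

variable {H V : Type u} [Group H] [AddCommGroup V] [DistribMulAction H V] {p : ℕ}

/-- The data of one block `K` together with the central involution `j`. -/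
structure Local (p : ℕ) (V : Type u) [AddCommGroup V] [DistribMulAction H V]
    (T M P K : Subgroup H) (j j₁ : H) {F : Type} [Field F] [Fintype F] (χ : ↥K →* SLtwo F)
    (n : ℕ) : Prop where
  le_T : P ≤ T
  le_K : P ≤ K
  fix : ∀ t ∈ T, (∀ v ∈ fx V P, t • v = v) → t ∈ P
  off_le : ∀ A : Subgroup H, A ≤ T → Elem p A → Nat.card V ≤ meas V A → A ≤ P
  of_normal : ∀ J : Subgroup H, T ≤ normalizer (J : Set H) →
    (∃ A ≤ J, A ≤ T ∧ A ≠ ⊥ ∧ Elem p A ∧ Nat.card V ≤ meas V A) → P ≤ J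
  central : ∀ h : H, h * j = j * h
  sq : j * j = 1
  mem : j ∈ M
  fixed : ∀ v : V, v + j • v ∈ fx V K
  exists_b : ∃ b ∈ K, ¬ cnj b P ≤ M
  gen : ∀ L ≤ K, P ≤ L → ¬ L ≤ M → L = K
  maxP : ∀ X ≤ K, IsPGroup p X → P ≤ X → X ≤ P
  mem₁ : j₁ ∈ K
  mem₁M : j₁ ∈ M
  central₁ : ∀ k ∈ K, k * j₁ = j₁ * k
  sq₁ : j₁ * j₁ = 1
  surj : Function.Surjective χ
  ne_one : χ ⟨j₁, mem₁⟩ ≠ 1
  kerp : IsPGroup p χ.ker
  quad : ∀ a ∈ P, ∀ v : V, dev a v ∈ fx V P
  card : Fintype.card F = p ^ n
  pos : 1 ≤ n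

theorem comm_of_orth [FaithfulSMul H V] {X Y : Subgroup H} (h1 : X ≤ fxTo (fx V Y))
    (h2 : Y ≤ fxTo (fx V X)) : Comm X Y := by
  intro a ha b hb
  refine eq_of_smul_eq_smul fun v : V => ?_
  have e := dev_dev_sub a b v
  rw [dev_eq_zero ha (h2 hb v), dev_eq_zero hb (h1 ha v), sub_zero] at e
  exact sub_eq_zero.1 e.symm

variable [Finite H] [Finite V] [FaithfulSMul H V] [Fact p.Prime]

theorem eq_zero_of_add (hexp : ∀ v : V, p • v = 0) (hp : p ≠ 2) {v : V} (h : v + v = 0) :
    v = 0 := by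
  have h2 : 2 • v = 0 := by rw [two_nsmul]; exact h
  have hc : Nat.Coprime 2 p := (Nat.coprime_primes Nat.prime_two Fact.out).2 (Ne.symm hp)
  have hd := Nat.dvd_gcd (addOrderOf_dvd_of_nsmul_eq_zero h2)
    (addOrderOf_dvd_of_nsmul_eq_zero (hexp v))
  rw [hc.gcd_eq_one, Nat.dvd_one, AddMonoid.addOrderOf_eq_one_iff] at hd
  exact hd

theorem exists_local (hexp : ∀ v : V, p • v = 0) (hp : p ≠ 2) (h : Hyp p H) (T : Sylow p H)
    {M : Subgroup H} (hM : UMax p M) (hTM : (T : Subgroup H) ≤ M) {A : Subgroup H}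
    (hA : Elem p A) (hA0 : A ≠ ⊥) (hm : Nat.card V ≤ meas V A) :
    ∃ (P K : Subgroup H) (j j₁ : H) (F : Type) (_ : Field F) (_ : Fintype F) (χ : ↥K →* SLtwo F)
      (n : ℕ), Local p V (T : Subgroup H) M P K j j₁ χ n := by
  classical
  have hz := moved_of_offender hexp h hA hA0 hm
  have hc := Std.of_moved hexp h hz
  obtain ⟨A₁, -, hA₁⟩ := exists_mem hA hA0 ((hc.tame.bound A hA).antisymm hm) hc.tame.bound
  obtain ⟨A₀, hA₀⟩ := hc.nonempty_members hA₁ T
  have hbig : ∀ D : Subgroup H, Mem p V D → 2 < Nat.card D := by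
    intro D hD
    obtain ⟨k, hk⟩ := IsPGroup.iff_card.1 hD.elem.isPGroup
    have hk0 : k ≠ 0 := fun h0 => hD.ne_bot (Subgroup.eq_bot_of_card_eq _ (by rw [hk, h0, pow_zero]))
    have h3 : 2 < p := lt_of_le_of_ne (Fact.out : p.Prime).two_le (Ne.symm hp)
    rw [hk]
    exact h3.trans_le (Nat.le_self_pow hk0 p)
  choose! B hB using fun D (hD : D ∈ members p V (T : Subgroup H)) => exists_part hc hM hTM hD
  set P := memSup p V (T : Subgroup H) with hPdef
  set N : Subgroup H := ⨆ D ∈ members p V (T : Subgroup H), D ⊔ B D with hN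
  have horth : ∀ D ∈ members p V (T : Subgroup H), ∀ D' ∈ members p V (T : Subgroup H), D ≠ D' →
      D ⊔ B D ≤ fxTo (fx V (D' ⊔ B D')) := fun D hD D' hD' hne =>
    (hB D hD).orth hc hM hTM hD hD' hne (hB D' hD') (hbig D hD.1)
  have hPN : P ≤ N := sSup_le fun D hD => le_sup_left.trans
    (le_iSup₂ (f := fun D (_ : D ∈ members p V (T : Subgroup H)) => D ⊔ B D) D hD)
  have hPT : P ≤ T := sSup_le fun D hD => hD.2
  have hPel := hc.tame.memSup T.2 (p := p) (V := V)
  have hPq := hc.tame.memSup_quad T.2 (p := p) (V := V)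
  have hb0 : Base p V (members p V (T : Subgroup H) \ {A₀}) T A₀ := ⟨hA₀, rfl⟩
  have hslot := hb0.inSlot hc
  have hP0 : P = sSup (members p V (T : Subgroup H) \ {A₀}) ⊔ A₀ := hb0.memSup_eq.symm
  -- the members of the Sylow subgroup are fixed by what fixes their common fixed points
  have hfixD : ∀ t ∈ (T : Subgroup H), (∀ v ∈ fx V P, t • v = v) →
      ∀ D ∈ members p V (T : Subgroup H), cnj t D = D := by
    intro t ht hv D hD
    by_contra hne
    have hD' := members_conj hD ht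
    obtain ⟨d, hd, hd1⟩ := exists_ne_one hD.1.ne_bot
    refine hd1 (eq_one_of_dev fun v : V => ?_)
    have h1 : t • dev d v = dev d v := hv _ (hPq d (le_sSup hD hd) v)
    rw [smul_dev] at h1
    have h2 := (hB D hD).dev_mem hc hTM hD hD' hne
      (show t * d * t⁻¹ ∈ cnj t D by simpa [mem_cnj, mul_assoc] using hd) (t • v)
    rw [h1] at h2
    exact dev_eq_zero hd (((hB D hD).oppPair hc hM hTM hD).opp d hd hd1 v h2.2)
  have hfix : ∀ t ∈ (T : Subgroup H), (∀ v ∈ fx V P, t • v = v) → t ∈ P := by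
    intro t ht hv
    have hdev : ∀ v : V, dev t v ∈ fx V P := by
      intro v
      refine mem_fx_sSup fun D hD => ?_
      have hn : zpowers t ≤ normalizer (D : Set H) := zpowers_le.2
        (mem_normalizer_iff_map_conj_eq.2 (hfixD t ht hv D hD))
      obtain ⟨d, hd, hd1, hcd⟩ := exists_commuting (T.2.to_le (zpowers_le.2 ht))
        hD.1.elem.isPGroup hD.1.ne_bot hn
      refine (hc.tame.fx_eq hD.1 hd hd1).2 ?_
      rw [← dev_comm (hcd t (mem_zpowers t)) v, dev_eq_zero_iff]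
      exact hv _ (hPq d (le_sSup hD hd) v)
    have hcomm : ∀ q ∈ P, t * q = q * t := by
      intro q hq
      refine eq_of_smul_eq_smul fun v : V => ?_
      have e := dev_dev_sub t q v
      rw [dev_eq_zero_iff.2 (hv _ (hPq q hq v)), dev_eq_zero hq (hdev v), sub_zero] at e
      exact sub_eq_zero.1 e.symm
    have hpow : t ^ p = 1 := by
      refine eq_of_smul_eq_smul fun v : V => ?_
      rw [nsmul_dev_eq (fun w => hv _ (hdev w)) p v, hexp, add_zero, one_smul]
    have hz1 : Elem p (zpowers t) := ⟨fun a ha b hb => by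
        obtain ⟨i, rfl⟩ := mem_zpowers_iff.1 ha
        obtain ⟨k, rfl⟩ := mem_zpowers_iff.1 hb
        rw [← _root_.zpow_add, ← _root_.zpow_add, add_comm], fun a ha => by
        obtain ⟨i, rfl⟩ := mem_zpowers_iff.1 ha
        rw [← zpow_natCast (t ^ i), ← _root_.zpow_mul, mul_comm, _root_.zpow_mul, zpow_natCast, hpow,
          _root_.one_zpow]⟩
    have hE : Elem p (P ⊔ zpowers t) := hPel.1.sup hz1 fun q hq a ha => by
      obtain ⟨i, rfl⟩ := mem_zpowers_iff.1 ha
      exact ((show Commute t q from hcomm q hq).zpow_left i).symm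
    have hb := hc.tame.bound _ hE
    have hfx : fx V (P ⊔ zpowers t) = fx V P := by
      rw [fx_sup, inf_eq_left]
      intro v hvP
      exact le_stab.1 (zpowers_le.2 (MulAction.mem_stabilizer_iff.2 (hv v hvP)))
    rw [meas, hfx, ← hPel.2, meas] at hb
    have heq : P = P ⊔ zpowers t := Subgroup.eq_of_le_of_card_ge le_sup_left
      (Nat.le_of_mul_le_mul_right hb Nat.card_pos)
    rw [heq]
    exact mem_sup_right (mem_zpowers t)
  -- the involution of each block
  have hblock : ∀ D ∈ members p V (T : Subgroup H), ∃ l ∈ D ⊔ B D, l * l = 1 ∧ l ≠ 1 ∧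
      (∀ e ∈ D ⊔ B D, e * l = l * e) ∧ ∀ v : V, v + l • v ∈ fx V (D ⊔ B D) := by
    intro D hD
    obtain ⟨F, _, _, hF, ⟨np⟩⟩ := (hB D hD).model
    set e₀ := np.ρ.symm (-1) with he₀
    refine ⟨e₀, e₀.2, ?_, fun h1 => ?_, fun e he => ?_, fun v => ?_⟩
    · rw [← Subgroup.coe_mul, ← Subgroup.coe_one (D ⊔ B D)]
      refine congrArg Subtype.val (np.ρ.injective ?_)
      rw [map_mul, map_one, he₀, MulEquiv.apply_symm_apply, neg_mul_neg, one_mul]
    · have h2 : (-1 : SLtwo F) = 1 := by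
        rw [← np.ρ.apply_symm_apply (-1), ← he₀, show e₀ = 1 from Subtype.ext h1, map_one]
      have h3 := congrArg (fun m : SLtwo F => (m : Matrix (Fin 2) (Fin 2) F) 0 0) h2
      simp only [Matrix.SpecialLinearGroup.coe_neg, Matrix.SpecialLinearGroup.coe_one,
        Matrix.neg_apply, Matrix.one_apply_eq] at h3
      obtain ⟨k, hk⟩ := IsPGroup.iff_card.1 hD.1.elem.isPGroup
      have : CharP F p := charP_of_card_eq_prime_pow (f := k) (hF.trans hk)
      exact Ring.neg_one_ne_one_of_char_ne_two (by rwa [ringChar.eq F p]) h3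
    · have h1 : (⟨e, he⟩ : ↥(D ⊔ B D)) * e₀ = e₀ * ⟨e, he⟩ := np.ρ.injective (by
        rw [map_mul, map_mul, he₀, MulEquiv.apply_symm_apply, mul_neg, mul_one, neg_mul, one_mul])
      exact congrArg Subtype.val h1
    · rw [fx_sup, ← np.ker, map_add, np.smul, he₀, MulEquiv.apply_symm_apply,
        Matrix.SpecialLinearGroup.coe_neg, Matrix.SpecialLinearGroup.coe_one, Matrix.neg_mulVec,
        Matrix.one_mulVec, add_neg_cancel]
  choose! l hl hlsq hl1 hlc hlf using hblock
  -- their product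
  have hprod : ∀ s : Set (Subgroup H), s ⊆ members p V (T : Subgroup H) →
      ∃ j ∈ ⨆ D ∈ s, D ⊔ B D, j * j = 1 ∧ (∀ D ∈ s, ∀ v : V, v + j • v ∈ fx V (D ⊔ B D)) ∧
        ∀ k ∈ (⨆ D ∈ s, D ⊔ B D), k * j = j * k := by
    intro s hs
    induction s, Set.toFinite s using Set.Finite.induction_on with
    | empty => exact ⟨1, one_mem _, one_mul 1, fun D hD => absurd hD (Set.notMem_empty D),
        fun k _ => by simp⟩
    | @insert D s hDs _ ih =>
      obtain ⟨j, hj, hjsq, hjf, hjc⟩ := ih fun X hX => hs (Set.mem_insert_of_mem D hX)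
      have hD := hs (Set.mem_insert D s)
      rw [iSup_insert]
      have hjD : j ∈ fxTo (fx V (D ⊔ B D)) := (iSup₂_le fun X hX =>
        horth X (hs (Set.mem_insert_of_mem D hX)) D hD fun he => hDs (he ▸ hX) : _ ≤ _) hj
      have hsD : ∀ k ∈ (⨆ X ∈ s, X ⊔ B X), ∀ e ∈ D ⊔ B D, e * k = k * e := by
        intro k hk e he
        have hle : (⨆ X ∈ s, X ⊔ B X) ≤ centralizer ({e} : Set H) := iSup₂_le fun X hX x hx => by
          have hXm := hs (Set.mem_insert_of_mem D hX)
          have hne : X ≠ D := fun h => hDs (h ▸ hX)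
          exact mem_centralizer_singleton_iff.2
            (comm_of_orth (horth X hXm D hD hne) (horth D hD X hXm hne.symm) x hx e he)
        exact (mem_centralizer_singleton_iff.1 (hle hk)).symm
      refine ⟨l D * j, mul_mem (mem_sup_left (hl D hD)) (mem_sup_right hj), ?_, fun X hX v => ?_, ?_⟩
      · calc l D * j * (l D * j) = l D * (j * l D) * j := by group
          _ = (l D * l D) * (j * j) := by rw [← hsD j hj _ (hl D hD)]; group
          _ = 1 := by rw [hlsq D hD, hjsq, one_mul]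
      · rcases hX with rfl | hX
        · have e : v + (l X * j) • v = (v + l X • v) + l X • dev j v := by
            rw [mul_smul, dev, smul_sub]; abel
          rw [e, dev_eq_zero_iff.1 (dev_eq_zero (hl X hD) (hjD v))]
          exact add_mem (hlf X hD v) (hjD v)
        · have hXm := hs (Set.mem_insert_of_mem D hX)
          have hne : D ≠ X := fun h => hDs (h ▸ hX)
          have e : v + (l D * j) • v = (v + j • v) + dev (l D) (j • v) := by
            rw [mul_smul, dev]; abel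
          rw [e]
          exact add_mem (hjf X hX v) (horth D hD X hXm hne (hl D hD) _)
      · have hjl : ∀ e ∈ D ⊔ B D, e * (l D * j) = l D * j * e := fun e he => by
          rw [← mul_assoc, hlc D hD e he, mul_assoc, hsD j hj e he, ← mul_assoc]
        have hle : (D ⊔ B D) ⊔ (⨆ X ∈ s, X ⊔ B X) ≤ centralizer ({l D * j} : Set H) := by
          refine sup_le (fun e he => mem_centralizer_singleton_iff.2 (hjl e he)) fun k hk => ?_
          refine mem_centralizer_singleton_iff.2 ?_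
          rw [← mul_assoc, ← hsD k hk _ (hl D hD), mul_assoc, hjc k hk, ← mul_assoc]
        exact fun k hk => mem_centralizer_singleton_iff.1 (hle hk)
  obtain ⟨j, hjN, hjsq, hjf, hjc⟩ := hprod _ le_rfl
  have hjF : ∀ v : V, v + j • v ∈ fx V N := fun v => le_stab.1 (iSup₂_le fun D hD =>
    le_stab.2 (hjf D hD v))
  have hTN : (T : Subgroup H) ≤ normalizer (N : Set H) := by
    intro t ht
    refine mem_normalizer_iff_map_conj_eq.2 (Subgroup.eq_of_le_of_card_ge ?_ (card_cnj t N).ge)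
    rw [map_le_iff_le_comap]
    exact iSup₂_le fun D hD => map_le_iff_le_comap.1 (((hB D hD).cnj_le hc hM hTM hD ht rfl
      (hB _ (members_conj hD ht))).trans (le_iSup₂ (f := fun D (_ : D ∈ members p V (T : Subgroup H)) =>
        D ⊔ B D) _ (members_conj hD ht)))
  have hNT : N ⊔ (T : Subgroup H) = ⊤ := by
    by_contra hne
    exact (hB A₀ hA₀).not_le ((le_sup_right.trans (le_iSup₂ (f := fun D
      (_ : D ∈ members p V (T : Subgroup H)) => D ⊔ B D) A₀ hA₀)).trans
      (le_sup_left.trans (hM.2.2 T hTM _ hne le_sup_right)))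
  have hcentral : ∀ g : H, g * j = j * g := by
    intro g
    have hle : N ⊔ (T : Subgroup H) ≤ centralizer ({j} : Set H) := by
      refine sup_le (fun k hk => mem_centralizer_singleton_iff.2 (hjc k hk)) fun t ht => ?_
      refine mem_centralizer_singleton_iff.2 ?_
      set j' := t * j * t⁻¹ with hj'
      have hj'N : j' ∈ N := (mem_normalizer_iff.1 (hTN ht) j).1 hjN
      have hcom : j' * j = j * j' := hjc j' hj'N
      have hu : j * j' = 1 := by
        refine eq_of_smul_eq_smul fun v : V => ?_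
        have hf : v + j' • v ∈ fx V N := by
          have h1 := smul_mem_fx (hTN ht) (hjF (t⁻¹ • v))
          rwa [smul_add, smul_inv_smul, ← mul_smul, ← mul_smul, ← hj'] at h1
        -- `j j'` moves `v` inside the fixed points
        have hd : dev (j * j') v ∈ fx V N := by
          have e : dev (j * j') v = (v + j' • v + -(v + j • v)) + (j • (j' • v) - -(j • v)) +
              (-(j' • v) + -v) := by simp only [dev, mul_smul]; abel
          have e' : j • (j' • v) - -(j • v) = v + j' • v := by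
            rw [sub_neg_eq_add, ← smul_add, add_comm (j' • v) v]
            exact hf j hjN
          rw [e, e', ← neg_add, add_comm (j' • v) v]
          exact add_mem (add_mem (add_mem hf (neg_mem (hjF v))) hf) (neg_mem hf)
        have hfixd : (j * j') • dev (j * j') v = dev (j * j') v := hd _ (mul_mem hjN hj'N)
        have hsq' : (j * j') * (j * j') = 1 := by
          calc (j * j') * (j * j') = j * (j' * j) * j' := by group
            _ = (j * j) * (j' * j') := by rw [hcom]; group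
            _ = 1 := by rw [hjsq, hj', one_mul]
                        calc t * j * t⁻¹ * (t * j * t⁻¹) = t * (j * j) * t⁻¹ := by group
                          _ = 1 := by rw [hjsq]; group
        have h2 := dev_mul (j * j') (j * j') v
        rw [hsq', dev_one, hfixd] at h2
        rw [one_smul]
        exact dev_eq_zero_iff.1 (eq_zero_of_add hexp hp h2.symm)
      have h3 : j' = j := by
        calc j' = j * (j * j') := by rw [← mul_assoc, hjsq, one_mul]
          _ = j := by rw [hu, mul_one]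
      calc t * j = j' * t := by rw [hj', inv_mul_cancel_right]
        _ = j * t := by rw [h3]
    exact mem_centralizer_singleton_iff.1 (hle (hNT.symm ▸ mem_top g))
  have hnormM : ∀ x : H, x ∈ normalizer (P : Set H) → x ∈ M := fun x hx =>
    hb0.normalizer_le hc hM hTM hx
  have hjM : j ∈ M := hnormM j (mem_normalizer_iff.2 fun x => by
    rw [← hcentral x, mul_inv_cancel_right])
  -- the block of `A₀`
  set Os := sSup (members p V (T : Subgroup H) \ {A₀}) with hOs
  obtain ⟨F, _, _, hF, ⟨np⟩⟩ := (hB A₀ hA₀).model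
  obtain ⟨n, hn⟩ := IsPGroup.iff_card.1 hA₀.1.elem.isPGroup
  have hn1 : 1 ≤ n := Nat.pos_of_ne_zero fun h0 =>
    hA₀.1.ne_bot (Subgroup.eq_bot_of_card_eq _ (by rw [hn, h0, pow_zero]))
  set E := A₀ ⊔ B A₀ with hE
  have hEc : E ≤ cent (members p V (T : Subgroup H) \ {A₀}) :=
    sup_le hslot.le_cent (hB A₀ hA₀).slot.le_cent
  have hcomm : ∀ (e : ↥E) (o : ↥Os), Commute (E.subtype e) (Os.subtype o) := fun e o =>
    (mem_centralizer_iff.1 (hEc e.2) o o.2).symm
  have hOfx : Os ≤ fxTo (fx V E) := sSup_le fun D hD d hd v => by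
    rw [hE, fx_sup]
    exact (hB A₀ hA₀).dev_mem hc hTM hA₀ hD.1 (fun he => hD.2 he) hd v
  have hdisj : ∀ e ∈ E, e ∈ Os → e = 1 := by
    intro e he heO
    have h1 : np.ρ ⟨e, he⟩ = 1 := by
      refine Subtype.ext (Matrix.ext_iff_mulVec.2 fun w => ?_)
      obtain ⟨v, rfl⟩ := np.surj w
      rw [← np.smul, Matrix.SpecialLinearGroup.coe_one, Matrix.one_mulVec, smul_eq e v, map_add,
        (np.ker (dev e v)).2 (by rw [← fx_sup]; exact hOfx heO v), add_zero]
    exact congrArg Subtype.val ((map_eq_one_iff np.ρ np.ρ.injective).1 h1)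
  set φ : ↥E × ↥Os →* H := MonoidHom.noncommCoprod E.subtype Os.subtype hcomm with hφ
  have hφinj : Function.Injective φ := by
    refine (injective_iff_map_eq_one φ).2 fun x hx => ?_
    rw [hφ, MonoidHom.noncommCoprod_apply] at hx
    have he : (x.1 : H) = 1 := hdisj _ x.1.2 (by
      rw [show (x.1 : H) = (x.2 : H)⁻¹ from eq_inv_of_mul_eq_one_left hx]
      exact inv_mem x.2.2)
    refine Prod.ext (Subtype.ext he) (Subtype.ext ?_)
    have h2 : (x.1 : H) * (x.2 : H) = 1 := hx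
    rwa [he, one_mul] at h2
  have hφr : φ.range = E ⊔ Os := by
    rw [hφ, MonoidHom.noncommCoprod_range, Subgroup.range_subtype, Subgroup.range_subtype]
  set χ₀ : ↥φ.range →* SLtwo F := np.ρ.toMonoidHom.comp
    ((MonoidHom.fst ↥E ↥Os).comp (MonoidHom.ofInjective hφinj).symm.toMonoidHom) with hχ₀
  have hval : ∀ x : ↥E × ↥Os, χ₀ ⟨φ x, ⟨x, rfl⟩⟩ = np.ρ x.1 := fun x => by
    have h1 : (⟨φ x, ⟨x, rfl⟩⟩ : ↥φ.range) = MonoidHom.ofInjective hφinj x := rfl
    rw [hχ₀, h1]
    simp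
  have hPK : P ≤ φ.range := by
    rw [hφr, hP0]; exact sup_le le_sup_right (le_sup_left.trans le_sup_left)
  have hKN : φ.range ≤ N := by
    rw [hφr]
    exact sup_le (le_iSup₂ (f := fun D (_ : D ∈ members p V (T : Subgroup H)) => D ⊔ B D) A₀ hA₀)
      (sSup_le fun D hD => (le_sSup hD.1).trans hPN)
  have hdecomp : ∀ L : Subgroup H, L ≤ φ.range → P ≤ L → ∀ x ∈ L,
      ∃ e ∈ E, e ∈ L ∧ ∃ o ∈ Os, x = e * o := by
    intro L hLK hPL x hx
    obtain ⟨⟨e, o⟩, rfl⟩ := hLK hx
    have ho : (o : H) ∈ L := hPL (hP0 ▸ mem_sup_left o.2)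
    refine ⟨e, e.2, ?_, o, o.2, rfl⟩
    simpa [hφ] using L.mul_mem hx (L.inv_mem ho)
  have hgen : ∀ L ≤ φ.range, P ≤ L → ¬ L ≤ M → L = φ.range := by
    intro L hLK hPL hLM
    obtain ⟨x, hxL, hxM⟩ := SetLike.not_le_iff_exists.1 hLM
    obtain ⟨e, heE, heL, o, ho, rfl⟩ := hdecomp L hLK hPL x hxL
    have heM : e ∉ M := fun he => hxM (mul_mem he (hTM (hPT (hP0 ▸ mem_sup_left ho))))
    have hAL : A₀ ≤ L := (hP0 ▸ le_sup_right : A₀ ≤ P).trans hPL
    have hne : cnj e A₀ ≠ A₀ := fun he =>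
      InSlot.cnj_not_le hc hb0 hM hTM (hEc heE) heM (he.le.trans (hA₀.2.trans hTM))
    obtain ⟨a, ha, he⟩ := (hB A₀ hA₀).eq_translate hc hM hTM hA₀ (hslot.conj (hEc heE)) hne
    have hBL : B A₀ ≤ L := by
      have h1 := cnj_mono a⁻¹ (he ▸ cnj_le_of_mem heL hAL : cnj a (B A₀) ≤ L)
      rw [cnj_cnj, inv_mul_cancel, cnj_one] at h1
      exact h1.trans (cnj_le_of_mem (inv_mem (hAL ha)) le_rfl)
    refine le_antisymm hLK ?_
    rw [hφr]
    exact sup_le (sup_le hAL hBL) ((hP0 ▸ le_sup_left : Os ≤ P).trans hPL)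
  have hmaxP : ∀ X ≤ φ.range, IsPGroup p X → P ≤ X → X ≤ P := by
    intro X hXK hXp hPX x hx
    obtain ⟨e, heE, heX, o, ho, rfl⟩ := hdecomp X hXK hPX x hx
    refine mul_mem (hP0 ▸ mem_sup_right ?_) (hP0 ▸ mem_sup_left ho)
    set Y : Subgroup ↥E := (X ⊓ E).subgroupOf E with hY
    have hYp : IsPGroup p Y := (hXp.to_le inf_le_left).of_equiv
      (subgroupOfEquivOfLe (inf_le_right : X ⊓ E ≤ E)).symm
    obtain ⟨m, hm⟩ := IsPGroup.iff_card.1 hYp
    have hcard : Nat.card ↥E = p ^ n * (p ^ n * p ^ n - 1) := by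
      rw [Nat.card_congr np.ρ.toEquiv, Classical.LowRank.natCard_SL_two, hF, hn, sq]
    have hdvd : p ^ m ∣ p ^ n * (p ^ n * p ^ n - 1) := by
      rw [← hcard, ← hm]; exact card_subgroup_dvd_card Y
    have hcop : (p ^ m).Coprime (p ^ n * p ^ n - 1) := by
      refine Nat.Coprime.pow_left _ ((Fact.out : p.Prime).coprime_iff_not_dvd.2 fun hd => ?_)
      have h1 : p ∣ p ^ n * p ^ n := dvd_mul_of_dvd_left (dvd_pow_self p (by omega)) _
      have h2 : 1 ≤ p ^ n * p ^ n := Nat.one_le_iff_ne_zero.2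
        (mul_ne_zero (pow_ne_zero _ (Fact.out : p.Prime).ne_zero) (pow_ne_zero _ (Fact.out : p.Prime).ne_zero))
      have := Nat.dvd_sub h1 hd
      rw [Nat.sub_sub_self h2, Nat.dvd_one] at this
      exact (Fact.out : p.Prime).one_lt.ne' this
    have hle : Nat.card Y ≤ Nat.card A₀ := by
      rw [hm, hn]
      exact Nat.le_of_dvd (pow_pos (Fact.out : p.Prime).pos _) (hcop.dvd_of_dvd_mul_right hdvd)
    have hsub : A₀ ≤ X ⊓ E := le_inf ((hP0 ▸ le_sup_right : A₀ ≤ P).trans hPX) le_sup_left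
    have heq : A₀ = X ⊓ E := Subgroup.eq_of_le_of_card_ge hsub (by
      rwa [← Nat.card_congr (subgroupOfEquivOfLe (inf_le_right : X ⊓ E ≤ E)).toEquiv, ← hY])
    exact heq.symm.le ⟨heX, heE⟩
  obtain ⟨b, hb, hbM⟩ := SetLike.not_le_iff_exists.1 (hB A₀ hA₀).not_le
  refine ⟨P, φ.range, j, l A₀, F, inferInstance, inferInstance, χ₀, n, ?_⟩
  have hlK : l A₀ ∈ φ.range := ⟨(⟨l A₀, hl A₀ hA₀⟩, 1), by simp [hφ]⟩
  have hlc' : ∀ k ∈ φ.range, k * l A₀ = l A₀ * k := by
    rintro _ ⟨⟨e, o⟩, rfl⟩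
    rw [hφ, MonoidHom.noncommCoprod_apply]
    show (e : H) * o * l A₀ = l A₀ * ((e : H) * o)
    rw [mul_assoc, show (o : H) * l A₀ = l A₀ * (o : H) from mem_centralizer_iff.1 (hEc (hl A₀ hA₀)) o o.2,
      ← mul_assoc, hlc A₀ hA₀ e e.2, mul_assoc]
  refine
    { le_T := hPT
      le_K := hPK
      fix := hfix
      off_le := fun X hXT hX hmX => ?_
      of_normal := fun J hTJ ⟨X, hXJ, hXT, hX0, hX, hmX⟩ => ?_
      central := hcentral
      sq := hjsq
      mem := hjM
      fixed := fun v => fx_anti hKN (hjF v)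
      exists_b := ⟨b, ⟨(⟨b, mem_sup_right hb⟩, 1), by simp [hφ]⟩, fun hle =>
        InSlot.cnj_not_le hc hb0 hM hTM (hEc (mem_sup_right hb)) hbM
          ((cnj_mono b (le_sSup hA₀)).trans hle)⟩
      gen := hgen
      maxP := hmaxP
      mem₁ := hlK
      mem₁M := ?_
      central₁ := hlc'
      sq₁ := hlsq A₀ hA₀
      surj := fun y => ⟨⟨φ (np.ρ.symm y, 1), ⟨_, rfl⟩⟩, by rw [hval]; exact np.ρ.apply_symm_apply y⟩
      ne_one := ?_
      kerp := ?_
      quad := fun a ha v => hPq a ha v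
      card := hF.trans hn
      pos := hn1 }
  · rcases eq_or_ne X ⊥ with rfl | hX0
    · exact bot_le
    · exact (le_sSup_members hexp h hX hX0 hmX).trans
        (sSup_le fun D hD => le_sSup ⟨hD.1, hD.2.trans hXT⟩)
  · obtain ⟨D₀, hD₀X, hD₀⟩ := exists_mem hX hX0 ((hc.tame.bound X hX).antisymm hmX) hc.tame.bound
    refine sSup_le fun D hD => ?_
    obtain ⟨t, ht, he⟩ := hc.partner.orbit hc.tame hc.hyp hD₀ (hD₀X.trans hXT) hD.1 hD.2
    rw [he]
    exact (cnj_mono t (hD₀X.trans hXJ)).trans (mem_normalizer_iff_map_conj_eq.1 (hTJ ht)).le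
  · refine hnormM _ (mem_normalizer_iff.2 fun x => ?_)
    have key : ∀ y ∈ P, l A₀ * y * (l A₀)⁻¹ = y := fun y hy => by
      rw [← hlc' y (hPK hy), mul_inv_cancel_right]
    refine ⟨fun hx => (key x hx).symm ▸ hx, fun hx => ?_⟩
    have h1 := key _ hx
    have h2 : l A₀ * x * (l A₀)⁻¹ = x := mul_left_cancel (mul_right_cancel h1)
    exact h2 ▸ hx
  · have e : (⟨l A₀, hlK⟩ : ↥φ.range) =
        ⟨φ (⟨l A₀, hl A₀ hA₀⟩, 1), ⟨_, rfl⟩⟩ := Subtype.ext (by simp [hφ])
    rw [e, hval]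
    exact fun h1 => hl1 A₀ hA₀ (congrArg Subtype.val ((map_eq_one_iff np.ρ np.ρ.injective).1 h1))
  · have hOsp : IsPGroup p Os := T.2.to_le ((hP0 ▸ le_sup_left : Os ≤ P).trans hPT)
    intro x
    obtain ⟨z, hz⟩ : ((x : ↥φ.range) : H) ∈ φ.range := (x : ↥φ.range).2
    have hx1 : np.ρ z.1 = 1 := by
      rw [← hval, show (⟨φ z, ⟨z, rfl⟩⟩ : ↥φ.range) = (x : ↥φ.range) from Subtype.ext hz]
      exact x.2
    obtain ⟨k, hk⟩ := hOsp z.2
    refine ⟨k, Subtype.ext (Subtype.ext ?_)⟩
    show ((x : ↥φ.range) : H) ^ p ^ k = 1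
    rw [← hz, ← map_pow, show z ^ p ^ k = 1 from Prod.ext
      (by rw [Prod.pow_fst, show z.1 = 1 from (map_eq_one_iff np.ρ np.ρ.injective).1 hx1, one_pow,
        Prod.fst_one]) (by rw [Prod.pow_snd, hk, Prod.snd_one]), map_one]

end Cfsg.Agent.Lib.FocalChar
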