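import Cfsg.Agent.Lib.FocalChar.Setup
import Cfsg.Agent.Lib.FocalChar.Blocks
import Cfsg.Agent.Lib.SL2Recog.Reduce

/-!
# The image of the group in the automorphisms of the module
-/

set_option autoImplicit false
set_option linter.unusedSectionVars false

namespace Cfsg.Agent.Lib.FocalChar

open Subgroup Cfsg SL2Recog FFMin
open Cfsg.Agent.Lib
open Cfsg.Agent.Lib.SL2 (SLtwo)

universe u

variable {G : Type u} [Group G] [Finite G] {p : ℕ} [Fact p.Prime]

/-- The block seen inside `G`. `f` is the map to the automorphisms of `V`. -/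
structure Data (p : ℕ) (S M V : Subgroup G) {H : Type u} [Group H] (f : G →* H) (P K : Subgroup H)
    (j j₁ : H) {F : Type} [Field F] [Fintype F] (χ : ↥K →* SLtwo F) (n : ℕ) : Prop where
  surj : Function.Surjective f
  ker : f.ker = centralizer (V : Set G)
  bound : ∀ A ∈ maxEl p S, Nat.card A * Nat.card ↥(V ⊓ centralizer (A : Set G)) ≤
    Nat.card ↥(A ⊓ centralizer (V : Set G)) * Nat.card V
  image : (bMax p S).map f = P
  le_S : P ≤ S.map f
  le_K : P ≤ K
  central : ∀ h : H, h * j = j * h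
  sq : j * j = 1
  mem : j ∈ M.map f
  fixed : ∀ g : G, f g = j → ∀ v ∈ V, ∀ k : G, f k ∈ K →
    k * (v * (g * v * g⁻¹)) = v * (g * v * g⁻¹) * k
  exists_b : ∃ b : G, f b ∈ K ∧ ¬ (P.map (MulAut.conj (f b)).toMonoidHom) ≤ M.map f
  gen : ∀ L ≤ K, P ≤ L → ¬ L ≤ M.map f → L = K
  maxP : ∀ X ≤ K, IsPGroup p X → P ≤ X → X ≤ P
  mem₁ : j₁ ∈ K
  mem₁M : j₁ ∈ M.map f
  central₁ : ∀ k ∈ K, k * j₁ = j₁ * k
  sq₁ : j₁ ^ 2 = 1
  surjχ : Function.Surjective χ
  ne_one : χ ⟨j₁, mem₁⟩ ≠ 1
  kerp : IsPGroup p χ.ker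
  quad : ∀ x : G, f x ∈ P → ∀ v ∈ V, ∀ y : G, f y ∈ P →
    y * (x * v * x⁻¹ * v⁻¹) = x * v * x⁻¹ * v⁻¹ * y
  card : Fintype.card F = p ^ n
  pos : 1 ≤ n

theorem exists_data (hp : p ≠ 2) {S M V : Subgroup G} (d : Pre p S M) (m : Module1 p S M V) :
    ∃ (H : Type u) (_ : Group H) (f : G →* H) (P K : Subgroup H) (j j₁ : H) (F : Type)
      (_ : Field F) (_ : Fintype F) (χ : ↥K →* SLtwo F) (n : ℕ), Data p S M V f P K j j₁ χ n := by
  classical
  letI instCV : CommGroup V := { (inferInstance : Group V) with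
    mul_comm := fun a b => m.elV.1.is_comm.comm a b }
  have hmem : ∀ (g : G) (v : V), g * (v : G) * g⁻¹ ∈ V := fun g v => m.normalV.conj_mem v v.2 g
  let θ : G →* (AddMonoid.End (Additive V))ˣ := MonoidHom.toHomUnits
    { toFun := fun g => AddMonoidHom.mk'
        (fun v => Additive.ofMul (⟨_, hmem g v.toMul⟩ : V)) fun v w =>
          Additive.toMul.injective (Subtype.ext (by
            show g * (((v.toMul : V) : G) * (w.toMul : V)) * g⁻¹ =
              (g * (v.toMul : V) * g⁻¹) * (g * (w.toMul : V) * g⁻¹)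
            simp [mul_assoc]))
      map_one' := AddMonoidHom.ext fun v => Additive.toMul.injective (Subtype.ext (by
        show (1 : G) * (v.toMul : V) * (1 : G)⁻¹ = (v.toMul : V)
        simp))
      map_mul' := fun g h => AddMonoidHom.ext fun v => Additive.toMul.injective (Subtype.ext (by
        show g * h * (v.toMul : V) * (g * h)⁻¹ = g * (h * (v.toMul : V) * h⁻¹) * g⁻¹
        simp [mul_assoc])) }
  have : Finite ↥θ.range := Finite.of_surjective _ θ.rangeRestrict_surjective
  have : Finite (Additive V) := inferInstanceAs (Finite V)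
  set f := θ.rangeRestrict with hf
  have hsurj : Function.Surjective f := θ.rangeRestrict_surjective
  have hsmul : ∀ (g : G) (w : Additive V),
      (((f g • w).toMul : V) : G) = g * (w.toMul : V) * g⁻¹ := fun g w => rfl
  have hiff : ∀ (g : G) (w : Additive V),
      f g • w = w ↔ g * (w.toMul : V) = ((w.toMul : V) : G) * g := fun g w => by
    rw [← mul_inv_eq_iff_eq_mul, ← hsmul g w]
    exact ⟨fun h => by rw [h], fun h => Additive.toMul.injective (Subtype.ext h)⟩
  have hker : f.ker = centralizer (V : Set G) := by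
    ext g
    rw [MonoidHom.mem_ker, mem_centralizer_iff]
    constructor
    · intro h v hv
      exact ((hiff g (Additive.ofMul ⟨v, hv⟩)).1 (by rw [h, one_smul])).symm
    · intro h
      refine eq_of_smul_eq_smul fun w : Additive V => ?_
      rw [one_smul, hiff]
      exact (h _ (w.toMul : V).2).symm
  have hexp : ∀ w : Additive V, p • w = 0 := fun w =>
    Additive.toMul.injective (Subtype.ext (m.elV.2 _ (w.toMul : V).2))
  obtain ⟨T, hT⟩ := d.sylow
  set TH : Sylow p ↥θ.range := T.mapSurjective hsurj with hTH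
  have hTHe : (TH : Subgroup ↥θ.range) = S.map f := by rw [hTH, Sylow.coe_mapSurjective, hT]
  have hTM : (TH : Subgroup ↥θ.range) ≤ M.map f := hTHe.le.trans (map_mono d.le)
  have hkM : f.ker ≤ M := hker ▸ m.leM
  have hMne : M.map f ≠ ⊤ := fun h => d.ne (by rw [← comap_map_eq_self hkM, h, comap_top])
  have hU : UMax p (M.map f) := UMax.of_sylow hMne TH hTM fun L hL hTL => by
    rw [← map_comap_eq_self_of_surjective hsurj L]
    refine map_mono (d.max _ (map_le_iff_le_comap.1 (hTHe ▸ hTL)) fun h => hL ?_)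
    rw [← map_comap_eq_self_of_surjective hsurj L, h, map_top_of_surjective _ hsurj]
  have hh : Hyp p ↥θ.range := by
    refine ⟨fun N hN hNp => ?_, _, hU⟩
    obtain ⟨R, hR⟩ := hNp.exists_le_sylow
    obtain ⟨c, hc⟩ := MulAction.exists_smul_eq ↥θ.range R TH
    have hNT : N ≤ S.map f := by
      intro x hx
      rw [← hTHe, ← hc, coe_smul_sylow, mem_cnj]
      exact hR (by simpa using hN.conj_mem x hx c⁻¹)
    have : (N.comap f).Normal := hN.comap f
    have hne : N.comap f ⊔ S ≠ ⊤ := fun h => hMne (top_unique (by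
      rw [← map_top_of_surjective _ hsurj, ← h, Subgroup.map_sup, map_comap_eq_self_of_surjective hsurj]
      exact sup_le (hNT.trans (map_mono d.le)) (map_mono d.le)))
    refine (eq_bot_iff_forall _).2 fun x hx => ?_
    obtain ⟨s, hs, rfl⟩ := hNT hx
    rw [← MonoidHom.mem_ker, hker]
    exact m.centV (d.inf_le_core hne ⟨hx, hs⟩)
  -- the offenders
  have hoff : ∀ A ∈ maxEl p S, Elem p (A.map f) ∧
      (Nat.card A * Nat.card ↥(V ⊓ centralizer (A : Set G)) =
        Nat.card ↥(A ⊓ centralizer (V : Set G)) * meas (Additive V) (A.map f)) := by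
    intro A hA
    refine ⟨⟨?_, ?_⟩, ?_⟩
    · rintro _ ⟨a, ha, rfl⟩ _ ⟨b, hb, rfl⟩
      rw [← map_mul, el_comm hA.2.1 ha hb, map_mul]
    · rintro _ ⟨a, ha, rfl⟩
      rw [← map_pow, hA.2.1.2 a ha, map_one]
    · have hfx : Nat.card (fx (Additive V) (A.map f)) = Nat.card ↥(V ⊓ centralizer (A : Set G)) := by
        refine Nat.card_congr ⟨fun w => ⟨(((w : Additive V).toMul : V) : G),
          ((w : Additive V).toMul : V).2, mem_centralizer_iff.2 fun b hb => ?_⟩,
          fun v => ⟨Additive.ofMul (⟨v, v.2.1⟩ : V), ?_⟩, fun w => rfl, fun v => rfl⟩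
        · exact (hiff b _).1 (w.2 _ (mem_map_of_mem _ hb))
        · rintro _ ⟨b, hb, rfl⟩
          exact (hiff b _).2 (mem_centralizer_iff.1 v.2.2 b hb)
      rw [meas, hfx, ← card_inf_ker_mul f A, hker]
      ring
  have hmeas : ∀ A ∈ maxEl p S, Nat.card (Additive V) ≤ meas (Additive V) (A.map f) := fun A hA => by
    refine Nat.le_of_mul_le_mul_left ?_ (Nat.card_pos (α := ↥(A ⊓ centralizer (V : Set G))))
    rw [← (hoff A hA).2, Nat.card_congr Additive.toMul]
    exact m.offender A hA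
  obtain ⟨A₁, hA₁, hA₁Q⟩ := m.exists_not_le
  have hA₁0 : A₁.map f ≠ ⊥ := fun h0 => hA₁Q fun a ha =>
    m.inf ⟨hker ▸ ((Subgroup.map_eq_bot_iff A₁).1 h0 ha), hA₁.1 ha⟩
  obtain ⟨P, K, j, j₁, F, iF, jF, χ, n, hl⟩ := exists_local hexp hp hh TH hU hTM
    (hoff A₁ hA₁).1 hA₁0 (hmeas A₁ hA₁)
  have hz := moved_of_offender hexp hh (hoff A₁ hA₁).1 hA₁0 (hmeas A₁ hA₁)
  have hbound := (FFComp.Std.of_moved hexp hh hz).tame.bound
  have hTnorm : (TH : Subgroup ↥θ.range) ≤
      normalizer (((bMax p S).map f : Subgroup ↥θ.range) : Set ↥θ.range) := by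
    have : ((bMax p S).subgroupOf S).Normal :=
      have := bMax_char (p := p) (S := S); inferInstance
    have h1 := (normal_subgroupOf_iff_le_normalizer bMax_le_S).1 this
    rw [hTHe]
    rintro _ ⟨s, hs, rfl⟩
    refine mem_normalizer_iff_map_conj_eq.2 ?_
    have h2 := mem_normalizer_iff_map_conj_eq.1 (h1 hs)
    conv_rhs => rw [← h2]
    rw [map_map, map_map]
    congr 1
    ext x
    simp
  refine ⟨↥θ.range, inferInstance, f, P, K, j, j₁, F, iF, jF, χ, n,
    { surj := hsurj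
      ker := hker
      bound := fun A hA => ?_
      image := le_antisymm ?_ ?_
      le_S := hl.le_T.trans hTHe.le
      le_K := hl.le_K
      central := hl.central
      sq := hl.sq
      mem := hl.mem
      fixed := fun g hg v hv k hk => ?_
      exists_b := ?_
      gen := hl.gen
      maxP := hl.maxP
      mem₁ := hl.mem₁
      mem₁M := hl.mem₁M
      central₁ := hl.central₁
      sq₁ := by rw [pow_two, hl.sq₁]
      surjχ := hl.surj
      ne_one := hl.ne_one
      kerp := hl.kerp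
      quad := fun x hx v hv y hy => ?_
      card := hl.card
      pos := hl.pos }⟩
  · rw [(hoff A hA).2, ← Nat.card_congr (Additive.toMul (α := ↥V))]
    exact Nat.mul_le_mul_left _ (hbound _ (hoff A hA).1)
  · rintro _ ⟨b, hb, rfl⟩
    refine hl.fix _ (hTHe.ge (mem_map_of_mem f (bMax_le_S hb))) fun w hw => (hiff b w).2 ?_
    refine (mem_centralizer_iff.1 hb.2 _ (m.fixP _ (w.toMul : V).2 fun A hA => ?_)).symm
    refine mem_centralizer_iff.2 fun a ha => (hiff a w).1 (hw _ ?_)
    exact hl.off_le _ (hTHe ▸ map_mono hA.1) (hoff A hA).1 (hmeas A hA) (mem_map_of_mem f ha)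
  · refine hl.of_normal _ hTnorm ⟨A₁.map f, map_mono (maxEl_le_bMax hA₁), hTHe ▸ map_mono hA₁.1, hA₁0,
      (hoff A₁ hA₁).1, hmeas A₁ hA₁⟩
  · have h1 := (hiff k _).1 (hl.fixed (Additive.ofMul ⟨v, hv⟩) _ hk)
    rw [← hg] at h1
    exact h1
  · obtain ⟨b, hb, hbM⟩ := hl.exists_b
    obtain ⟨b', rfl⟩ := hsurj b
    exact ⟨b', hb, hbM⟩
  · have h1 := (hiff y (dev (f x) (Additive.ofMul ⟨v, hv⟩))).1
      (hl.quad (f x) hx (Additive.ofMul ⟨v, hv⟩) (f y) hy)
    have h2 : (((dev (f x) (Additive.ofMul (⟨v, hv⟩ : V))).toMul : V) : G) = x * v * x⁻¹ * v⁻¹ := by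
      rw [dev, sub_eq_add_neg]
      rfl
    rwa [h2] at h1

end Cfsg.Agent.Lib.FocalChar
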