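import Cfsg.Agent.Lib.FocalChar.Action
import Cfsg.Agent.Lib.Transfer.PResidual
import Cfsg.Agent.Lib.FFMin.Basic

/-!
# Constrained groups with neither the centre of the Sylow subgroup nor `kSub` normal, odd `p`:
some element outside the maximal subgroup moves `O_p` only inside the given subgroup
-/

set_option autoImplicit false
set_option linter.unusedSectionVars false

namespace Cfsg.Agent.Lib.FocalChar

open Subgroup Cfsg
open Cfsg.Agent.Lib
open Cfsg.Agent.Lib.SL2 (SLtwo PSLtwo proj)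
open scoped commutatorElement

universe u

variable {G : Type u} [Group G] [Finite G] {p : ℕ} [Fact p.Prime]

theorem pow_two_half (hp : p ≠ 2) {a : G} (h : a ^ p = 1) :
    a ^ ((p + 1) / 2) * a ^ ((p + 1) / 2) = a := by
  have ho : Odd p := (Fact.out : p.Prime).odd_of_ne_two hp
  obtain ⟨k, rfl⟩ := ho
  rw [← pow_add, show (2 * k + 1 + 1) / 2 + (2 * k + 1 + 1) / 2 = 2 * k + 1 + 1 by omega, pow_succ,
    h, one_mul]

theorem mem_of_mul_self (hp : p ≠ 2) {H : Subgroup G} {e : G} (he : ∃ k : ℕ, orderOf e = p ^ k)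
    (h : e * e ∈ H) : e ∈ H := by
  obtain ⟨k, hk⟩ := he
  have ho : Odd (p ^ k) := ((Fact.out : p.Prime).odd_of_ne_two hp).pow
  obtain ⟨i, hi⟩ := ho
  have e1 : e = (e * e) ^ (i + 1) := by
    rw [← pow_two, ← pow_mul, show 2 * (i + 1) = p ^ k + 1 by omega, pow_succ, ← hk,
      pow_orderOf_eq_one, one_mul]
  rw [e1]
  exact pow_mem h _

theorem odd_pow_eq {H : Type*} [Monoid H] {j : H} (hj : j * j = 1) {n : ℕ} (hn : Odd n) :
    j ^ n = j := by
  obtain ⟨i, rfl⟩ := hn
  rw [pow_succ, pow_mul, pow_two, hj, one_pow, one_mul]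

theorem involution_scalar {F : Type*} [Field F] (h2 : (2 : F) ≠ 0) (s : SLtwo F)
    (hM : (s : Matrix (Fin 2) (Fin 2) F) * s = 1) : s = 1 ∨ s = -1 := by
  have hd : s 0 0 * s 1 1 - s 0 1 * s 1 0 = 1 := SL2.det_entries s
  have e00 := congrFun (congrFun hM 0) 0
  have e01 := congrFun (congrFun hM 0) 1
  have e10 := congrFun (congrFun hM 1) 0
  have e11 := congrFun (congrFun hM 1) 1
  simp [Matrix.mul_apply, Fin.sum_univ_two] at e00 e01 e10 e11
  have hne : s 0 0 + s 1 1 ≠ 0 := fun h0 => h2 (by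
    linear_combination (-1 : F) * e00 - hd + s 0 0 * h0)
  have h01 : s 0 1 = 0 := (mul_eq_zero.1 (show s 0 1 * (s 0 0 + s 1 1) = 0 by
    linear_combination e01)).resolve_right hne
  have h10 : s 1 0 = 0 := (mul_eq_zero.1 (show s 1 0 * (s 0 0 + s 1 1) = 0 by
    linear_combination e10)).resolve_right hne
  have hsq : (s 0 0 - 1) * (s 0 0 + 1) = 0 := by
    linear_combination e00 - s 1 0 * h01
  rcases mul_eq_zero.1 hsq with h | h
  · left
    have h' : s 0 0 = 1 := sub_eq_zero.1 h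
    have h11 : s 1 1 = 1 := by linear_combination hd - s 1 1 * h' + s 1 0 * h01
    ext a b
    fin_cases a <;> fin_cases b <;> simp [h', h01, h10, h11]
  · right
    have h' : s 0 0 = -1 := eq_neg_of_add_eq_zero_left h
    have h11 : s 1 1 = -1 := by linear_combination (-1 : F) * hd + s 1 1 * h' - s 1 0 * h01
    ext a b
    fin_cases a <;> fin_cases b <;> simp [h', h01, h10, h11]

theorem comm_identity {A : Type*} [CommGroup A] (a a' b b' : A) :
    (a⁻¹ * a')⁻¹ * (b⁻¹ * b') * (a⁻¹ * b * (a⁻¹ * b)) = (a * a')⁻¹ * (b * b') := by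
  apply Additive.ofMul.injective
  simp only [ofMul_mul, ofMul_inv]
  abel

theorem core (hp : p ≠ 2) {S M : Subgroup G} (d : Pre p S M) (Ω : Subgroup G)
    (hΩ : ∀ z ∈ pCore p G, ∀ h ∈ M, z⁻¹ * (h * z * h⁻¹) ∈ Ω) :
    ∃ x : G, x ∉ M ∧ ∀ z ∈ pCore p G, z⁻¹ * (x * z * x⁻¹) ∈ Ω := by
  classical
  have hpodd : Odd p := (Fact.out : p.Prime).odd_of_ne_two hp
  obtain ⟨V, m1⟩ := d.exists_modules
  obtain ⟨H, iH, f, P, K, j, j₁, F, iF, jF, χ, n, dd⟩ := exists_data hp d m1
  obtain ⟨W, Kc, m2⟩ := d.exists_enlarged m1 dd.bound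
  set Q := pCore p G with hQ
  haveI hQn : Q.Normal := @Subgroup.normal_of_characteristic _ _ _ PSolvable.pCore_characteristic
  haveI := m1.normalV
  haveI := m2.normalW
  haveI := m2.normalK
  have hQp : IsPGroup p Q := PSolvable.pCore_isPGroup
  set Cv := centralizer (V : Set G) with hCv
  haveI : Cv.Normal := inferInstance
  set Cw := centralizer (W : Set G) with hCw
  haveI : Cw.Normal := inferInstance
  set B := bMax p S with hB
  set Z := zMax p S with hZ
  have hVW : V ≤ W := m2.W_eq ▸ le_sup_left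
  have hZW : Z ≤ W := m2.W_eq ▸ le_sup_right
  have hCwv : Cw ≤ Cv := centralizer_le hVW
  have hM : ∀ g : G, f g ∈ M.map f → g ∈ M := by
    rintro g ⟨m, hm, he⟩
    have h1 : m⁻¹ * g ∈ Cv := by rw [hCv, ← dd.ker, MonoidHom.mem_ker, map_mul, map_inv, he, inv_mul_cancel]
    simpa using mul_mem hm (m1.leM h1)
  have hpel : ∀ X : Subgroup G, IsPGroup p X → X ≤ Cv → X ≤ Q := by
    intro X hX hXC x hx
    obtain ⟨T, hT⟩ := d.sylow
    obtain ⟨R, hR⟩ := hX.exists_le_sylow
    obtain ⟨g, hg⟩ := MulAction.exists_smul_eq G R T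
    have h1 : g * x * g⁻¹ ∈ S := by
      rw [← hT, ← hg, SL2Recog.coe_smul_sylow, SL2Recog.mem_cnj]
      simpa [mul_assoc] using hR hx
    have h2 : g * x * g⁻¹ ∈ Q := m1.inf ⟨(inferInstance : Cv.Normal).conj_mem x (hXC hx) g, h1⟩
    have h3 := hQn.conj_mem _ h2 g⁻¹
    simpa [mul_assoc] using h3
  have hK' : ∀ t : G, (orderOf t).Coprime p → t ∈ Kc := fun t ht => d.coprime_mem m2.top ht
  have hfixW : ∀ t ∈ Cv, (orderOf t).Coprime p → t ∈ Cw := by
    intro t ht hco
    refine mem_centralizer_iff.2 fun w hw => ?_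
    set a := t * w * t⁻¹ * w⁻¹ with ha
    have hav : a ∈ V := m2.act t (hK' t hco) w hw
    have hn : ∀ g : G, g ∈ normalizer ((⊥ : Subgroup G) : Set G) := fun g =>
      (normalizer_eq_top_iff.2 (inferInstance : (⊥ : Subgroup G).Normal)).symm ▸ mem_top g
    have h1 : a ∈ (⊥ : Subgroup G) := by
      refine mem_of_stable (d := w) hco (hn t) (hn a) ((IsPGroup.iff_orderOf.1 hQp) ⟨a, m1.leQ hav⟩ |>.imp
        fun k hk => by rwa [orderOf_mk] at hk) (by rw [ha]; group) ?_
      rw [mem_bot, ← mem_centralizer_iff.1 ht a hav, mul_inv_cancel_right, mul_inv_cancel]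
    rw [mem_bot, ha, mul_inv_eq_one, mul_inv_eq_iff_eq_mul] at h1
    exact h1.symm
  -- a lift of the central involution normalizing `S`
  obtain ⟨jj, hjj, hjco, hjS⟩ : ∃ jj : G, f jj = j ∧ (orderOf jj).Coprime p ∧
      S.map (MulAut.conj jj).toMonoidHom = S := by
    obtain ⟨j0, hj0⟩ := dd.surj j
    obtain ⟨T, hT⟩ := d.sylow
    have hTL : (T : Subgroup G) ≤ Cv ⊔ S := hT ▸ le_sup_right
    have hTL' : ((j0 • T : Sylow p G) : Subgroup G) ≤ Cv ⊔ S := by
      rw [SL2Recog.coe_smul_sylow]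
      rintro _ ⟨s, hs, rfl⟩
      have h1 : j0 * s * j0⁻¹ * s⁻¹ ∈ Cv := by
        rw [hCv, ← dd.ker, MonoidHom.mem_ker, map_mul, map_mul, map_mul, map_inv, map_inv, hj0,
          ← dd.central (f s), mul_inv_cancel_right, mul_inv_cancel]
      have h2 := mul_mem (mem_sup_left (T := S) h1) (mem_sup_right (S := Cv) (hT ▸ hs : s ∈ S))
      rwa [inv_mul_cancel_right] at h2
    obtain ⟨l, hl, he⟩ := FFMin.exists_conj_mem hTL hTL'
    obtain ⟨v, hv, s, hs, rfl⟩ := mem_sup_of_normal_left.1 hl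
    rw [← SL2Recog.cnj_cnj, SL2Recog.cnj_self (hT.symm ▸ hs : s ∈ (T : Subgroup G)),
      SL2Recog.coe_smul_sylow, hT] at he
    set j' := v⁻¹ * j0 with hj'
    have hj'S : j' ∈ normalizer (S : Set G) := mem_normalizer_iff_map_conj_eq.2 (by
      show SL2Recog.cnj j' S = S
      rw [hj', ← SL2Recog.cnj_cnj, ← he, SL2Recog.cnj_cnj, inv_mul_cancel, SL2Recog.cnj_one])
    obtain ⟨k, hk⟩ := Transfer.exists_pow_coprime (p := p) j'
    refine ⟨j' ^ p ^ k, ?_, hk, mem_normalizer_iff_map_conj_eq.1 (pow_mem hj'S _)⟩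
    have hv1 : f v = 1 := MonoidHom.mem_ker.1 (dd.ker.symm ▸ hv)
    rw [map_pow, hj', map_mul, map_inv, hv1, inv_one, one_mul, hj0, odd_pow_eq dd.sq hpodd.pow]
  have hjM : jj ∈ M := hM jj (hjj.symm ▸ dd.mem)
  have hjZ : Z.map (MulAut.conj jj).toMonoidHom = Z := by
    have h1 := map_zMax (p := p) (S := S) (f := (MulAut.conj jj).toMonoidHom.comp S.subtype)
      ((MulAut.conj jj).injective.comp S.subtype_injective)
      (by rw [MonoidHom.range_comp, Subgroup.range_subtype, hjS])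
    rwa [← map_map, map_subgroupOf_eq_of_le zMax_le_S] at h1
  have hjj2 : jj * jj ∈ Cw := by
    refine hfixW _ (by rw [hCv, ← dd.ker, MonoidHom.mem_ker, map_mul, hjj, dd.sq]) ?_
    rw [← pow_two]
    exact Nat.Coprime.coprime_dvd_left (orderOf_pow_dvd 2) hjco
  set C := W ⊓ centralizer ({jj} : Set G) with hC
  have hhalf : ∀ z ∈ Z, ∃ c ∈ Z, c * jj = jj * c ∧ c * z⁻¹ ∈ V := by
    intro z hz
    set a := jj * z * jj⁻¹ * z⁻¹ with ha
    have haV : a ∈ V := m2.act jj (hK' jj hjco) z (hZW hz)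
    have haZ : a ∈ Z := mul_mem (hjZ.le (mem_map_of_mem _ hz)) (inv_mem hz)
    have hza : z * a = a * z := el_comm m2.elW (hZW hz) (hVW haV)
    have hjaj : jj * a * jj⁻¹ = a⁻¹ := by
      have h1 : jj * jj * z * (jj * jj)⁻¹ = z := by
        rw [← mem_centralizer_iff.1 hjj2 z (hZW hz), mul_inv_cancel_right]
      have h2 : jj * a * jj⁻¹ * a * z = z := by
        calc jj * a * jj⁻¹ * a * z = jj * jj * z * (jj * jj)⁻¹ := by rw [ha]; group
          _ = z := h1
      exact eq_inv_of_mul_eq_one_left (mul_eq_right.1 h2)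
    set c := z * a ^ ((p + 1) / 2) with hc
    have hha := pow_two_half hp (m1.elV.2 a haV)
    refine ⟨c, mul_mem hz (pow_mem haZ _), ?_, ?_⟩
    · have h1 : jj * c * jj⁻¹ = c := by
        calc jj * c * jj⁻¹ = (a * z) * (jj * a ^ ((p + 1) / 2) * jj⁻¹) := by rw [hc, ha]; group
          _ = z * (a * (a ^ ((p + 1) / 2))⁻¹) := by
              rw [← conj_pow, hjaj, inv_pow, ← hza, mul_assoc]
          _ = c := by
              rw [hc]
              congr 1
              rw [mul_inv_eq_iff_eq_mul]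
              exact hha.symm
      calc c * jj = jj * c * jj⁻¹ * jj := by rw [h1]
        _ = jj * c := by rw [inv_mul_cancel_right]
    · rw [hc, show z * a ^ ((p + 1) / 2) * z⁻¹ = a ^ ((p + 1) / 2) from by
        rw [(show Commute z a from hza).pow_right _, mul_inv_cancel_right]]
      exact pow_mem haV _
  have hWC : W ≤ V ⊔ C := by
    rw [m2.W_eq]
    refine sup_le le_sup_left fun z hz => ?_
    obtain ⟨c, hcZ, hcj, hcV⟩ := hhalf z hz
    have h1 : z = (c * z⁻¹)⁻¹ * c := by group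
    rw [h1]
    exact mul_mem (mem_sup_left (inv_mem hcV))
      (mem_sup_right ⟨hZW hcZ, mem_centralizer_singleton_iff.2 hcj⟩)
  have hAK : ∀ A ∈ maxEl p S, ∀ a ∈ A, f a ∈ K := fun A hA a ha =>
    dd.le_K (dd.image.le (mem_map_of_mem f (maxEl_le_bMax hA ha)))
  have hCZ : C ≤ Z := by
    rintro c ⟨hcW, hcj⟩
    obtain ⟨v, hv, z, hz, rfl⟩ := mem_sup_of_normal_left.1 (m2.W_eq ▸ hcW : c ∈ V ⊔ Z)
    obtain ⟨c', hc'Z, hc'j, hc'V⟩ := hhalf z hz
    set u := v * z * c'⁻¹ with hu
    have huV : u ∈ V := by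
      have h1 := mul_mem hv (inv_mem hc'V)
      simpa [hu, mul_assoc] using h1
    have huj : jj * u * jj⁻¹ = u := by
      have h1 : u ∈ centralizer ({jj} : Set G) := mul_mem hcj (inv_mem (mem_centralizer_singleton_iff.2 hc'j))
      rw [← mem_centralizer_singleton_iff.1 h1, mul_inv_cancel_right]
    have huu : u * u ∈ Z := by
      refine m1.fixP _ (mul_mem huV huV) fun A hA => mem_centralizer_iff.2 fun a ha => ?_
      have h1 := dd.fixed jj hjj u huV a (hAK A hA a ha)
      rwa [huj] at h1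
    have huZ : u ∈ Z := mem_of_mul_self hp
      ((IsPGroup.iff_orderOf.1 hQp) ⟨u, m1.leQ huV⟩ |>.imp fun k hk => by rwa [orderOf_mk] at hk) huu
    have h1 := mul_mem huZ hc'Z
    simpa [hu] using h1
  have hBC : ∀ b ∈ B, ∀ c ∈ C, b * c = c * b := fun b hb c hc =>
    (mem_centralizer_iff.1 hb.2 c (hCZ hc)).symm
  -- a conjugating element commuting with `jj` on `W`
  obtain ⟨b, hbK, hbM⟩ := dd.exists_b
  set π := QuotientGroup.mk' Cw with hπ
  set J := π jj with hJ
  have hJ2 : J * J = 1 := by rw [hJ, ← map_mul]; exact (QuotientGroup.eq_one_iff _).2 hjj2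
  set u := b * jj * b⁻¹ * jj with hu
  have huCv : u ∈ Cv := by
    rw [hCv, ← dd.ker, MonoidHom.mem_ker, hu, map_mul, map_mul, map_mul, map_inv, hjj, dd.central (f b),
      mul_inv_cancel_right, dd.sq]
  have huK : u ∈ Kc := mul_mem (m2.normalK.conj_mem jj (hK' jj hjco) b) (hK' jj hjco)
  have hUp : π u ^ p = 1 := by
    rw [← map_pow]
    refine (QuotientGroup.eq_one_iff _).2 (mem_centralizer_iff.2 fun w hw => ?_)
    set a := u * w * u⁻¹ * w⁻¹ with ha
    have haV : a ∈ V := m2.act u huK w hw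
    have hk : ∀ k : ℕ, u ^ k * w = a ^ k * w * u ^ k := by
      intro k
      induction k with
      | zero => simp
      | succ k ih =>
        calc u ^ (k + 1) * w = u * (u ^ k * w) := by rw [pow_succ']; group
          _ = u * (a ^ k) * w * u ^ k := by rw [ih]; group
          _ = a ^ k * (u * w) * u ^ k := by
              rw [← mem_centralizer_iff.1 huCv (a ^ k) (pow_mem haV k)]; group
          _ = a ^ k * (a * w * u) * u ^ k := by rw [ha]; group
          _ = a ^ (k + 1) * w * u ^ (k + 1) := by rw [pow_succ, pow_succ' u]; group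
    rw [hk p, m1.elV.2 a haV, one_mul]
  set h2 := (p + 1) / 2 with hh2
  set U := π u with hU
  have hJU : J * U * J = U⁻¹ := by
    have hJi : J⁻¹ = J := inv_eq_of_mul_eq_one_right hJ2
    rw [hU, hu, map_mul, map_mul, map_mul, map_inv, ← hJ]
    simp only [mul_inv_rev, inv_inv, hJi, mul_assoc, hJ2, mul_one]
  set g := (u ^ h2)⁻¹ * b with hg
  have hgK : f g = f b := by
    rw [hg, map_mul, map_inv, map_pow, show f u = 1 from MonoidHom.mem_ker.1 (dd.ker.symm ▸ huCv),
      one_pow, inv_one, one_mul]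
  have hgJ : π g * J = J * π g := by
    have hJi : J⁻¹ = J := inv_eq_of_mul_eq_one_right hJ2
    have hXJ : π b * J = U * J * π b := by
      rw [hU, hu, map_mul, map_mul, map_mul, map_inv, ← hJ]
      simp only [mul_assoc]
      rw [← mul_assoc J J, hJ2, one_mul, inv_mul_cancel, mul_one]
    have h3 : J * (U ^ h2)⁻¹ = U ^ h2 * J := by
      have h4 : J * U⁻¹ * J⁻¹ = U := by rw [← hJU, hJi]; simp only [mul_assoc, hJ2, mul_one]; rw [← mul_assoc, hJ2, one_mul]
      rw [← inv_pow]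
      have h5 : J * U⁻¹ ^ h2 * J⁻¹ = U ^ h2 := by rw [← conj_pow, h4]
      exact mul_inv_eq_iff_eq_mul.1 h5
    rw [hg, map_mul, map_inv, map_pow, ← hU, mul_assoc, hXJ, ← mul_assoc J, h3]
    simp only [← mul_assoc]
    congr 2
    rw [inv_mul_eq_iff_eq_mul]
    exact (pow_two_half hp hUp).symm
  have hCinv : ∀ h : G, π h * J = J * π h → ∀ c ∈ C, h * c * h⁻¹ ∈ C := by
    intro h hh c hc
    have hw : h * c * h⁻¹ ∈ W := m2.normalW.conj_mem c hc.1 h
    refine ⟨hw, mem_centralizer_singleton_iff.2 ?_⟩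
    have he : (jj * h)⁻¹ * (h * jj) ∈ Cw := by
      refine (QuotientGroup.eq_one_iff _).1 ?_
      show π _ = 1
      rw [map_mul, map_inv, map_mul, map_mul, ← hJ, hh, inv_mul_cancel]
    have h1 : (jj * h)⁻¹ * (h * jj) * c = c * ((jj * h)⁻¹ * (h * jj)) :=
      (mem_centralizer_iff.1 he c hc.1).symm
    have hcj : c * jj = jj * c := mem_centralizer_singleton_iff.1 hc.2
    calc h * c * h⁻¹ * jj = jj * ((jj⁻¹ * h * jj) * (jj⁻¹ * c * jj) * (jj⁻¹ * h * jj)⁻¹) := by group
      _ = jj * (h * ((jj * h)⁻¹ * (h * jj) * c) * ((jj * h)⁻¹ * (h * jj))⁻¹ * h⁻¹) := by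
          rw [show jj⁻¹ * c * jj = c by rw [mul_assoc, hcj, inv_mul_cancel_left]]; group
      _ = jj * (h * c * h⁻¹) := by rw [h1]; group
  set H0 := B ⊔ B.map (MulAut.conj g).toMonoidHom with hH0
  have hH0C : H0 ≤ centralizer (C : Set G) := by
    refine sup_le (fun x hx => mem_centralizer_iff.2 fun c hc => (hBC x hx c hc).symm) ?_
    rintro _ ⟨x, hx, rfl⟩
    refine mem_centralizer_iff.2 fun c hc => ?_
    have hgi : π g⁻¹ * J = J * π g⁻¹ := by
      rw [map_inv]; exact (show Commute (π g) J from hgJ).inv_left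
    have h1 := hBC x hx _ (hCinv g⁻¹ hgi c hc)
    rw [inv_inv] at h1
    show c * (g * x * g⁻¹) = g * x * g⁻¹ * c
    calc c * (g * x * g⁻¹) = g * ((g⁻¹ * c * g) * x) * g⁻¹ := by group
      _ = g * (x * (g⁻¹ * c * g)) * g⁻¹ := by rw [← h1]
      _ = g * x * g⁻¹ * c := by group
  have hH0K : H0.map f ≤ K := by
    rw [hH0, Subgroup.map_sup, dd.image, map_map]
    refine sup_le dd.le_K ?_
    rintro _ ⟨x, hx, rfl⟩
    show f (g * x * g⁻¹) ∈ K
    rw [map_mul, map_mul, map_inv, hgK]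
    exact mul_mem (mul_mem hbK (dd.le_K (dd.image.le (mem_map_of_mem f hx)))) (inv_mem hbK)
  have hH0M : ¬ H0 ≤ M := by
    intro hle
    refine hbM ?_
    rintro _ ⟨y, hy, rfl⟩
    obtain ⟨x, hx, rfl⟩ := dd.image.ge hy
    refine ⟨g * x * g⁻¹, hle (mem_sup_right ⟨x, hx, rfl⟩), ?_⟩
    simp [hgK]
  -- a minimal subgroup over `B` outside `M`
  obtain ⟨H1, ⟨hBH, hH1le, hH1M⟩, hmin⟩ := (wellFounded_lt (α := Subgroup G)).has_min
    {L | B ≤ L ∧ L ≤ H0 ∧ ¬ L ≤ M} ⟨H0, le_sup_left, le_rfl, hH0M⟩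
  have hH1K : H1.map f = K := dd.gen _ ((map_mono hH1le).trans hH0K) (dd.image.ge.trans (map_mono hBH))
    fun hle => hH1M fun x hx => hM x (hle (mem_map_of_mem f hx))
  have hH1C : H1 ≤ centralizer (C : Set G) := hH1le.trans hH0C
  set D0 := Q ⊓ Cw with hD0
  haveI hD0n : D0.Normal := inferInstance
  have hD0B : D0 ≤ B := fun x hx => ⟨d.core_le hx.1, centralizer_le hZW hx.2⟩
  have hVD : V ≤ D0 := le_inf m1.leQ fun v hv => mem_centralizer_iff.2 fun w hw =>
    el_comm m2.elW hw (hVW hv)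
  have hCC : ∀ x ∈ Cv, x ∈ centralizer (C : Set G) → x ∈ Cw := fun x hx hxC => by
    have h1 : W ≤ centralizer ({x} : Set G) := hWC.trans (sup_le
      (fun v hv => mem_centralizer_singleton_iff.2 (mem_centralizer_iff.1 hx v hv))
      (fun c hc => mem_centralizer_singleton_iff.2 (mem_centralizer_iff.1 hxC c hc)))
    exact mem_centralizer_iff.2 fun w hw => mem_centralizer_singleton_iff.1 (h1 hw)
  -- the Sylow subgroup of `H1`
  have hBp : IsPGroup p B := d.pgroup.to_le bMax_le_S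
  let P1 : Sylow p ↥H1 :=
    { toSubgroup := B.subgroupOf H1
      isPGroup' := hBp.of_equiv (subgroupOfEquivOfLe hBH).symm
      is_maximal' := fun {X} hX hle => by
        refine le_antisymm (fun x hx => ?_) hle
        rw [mem_subgroupOf]
        have hXp : IsPGroup p (X.map H1.subtype) := hX.map _
        have hBX : B ≤ X.map H1.subtype := fun y hy => ⟨⟨y, hBH hy⟩, hle hy, rfl⟩
        obtain ⟨y, hy, hye⟩ := dd.image.ge (dd.maxP _
          (hH1K ▸ map_mono (map_subtype_le X)) (hXp.map f) (dd.image.ge.trans (map_mono hBX))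
          (mem_map_of_mem f (mem_map_of_mem H1.subtype hx)))
        set q := y⁻¹ * (x : G) with hq
        have hqX : q ∈ X.map H1.subtype := mul_mem (inv_mem (hBX hy)) (mem_map_of_mem H1.subtype hx)
        have hqC : q ∈ Cv := by
          rw [hCv, ← dd.ker, MonoidHom.mem_ker, hq, map_mul, map_inv, hye]
          exact inv_mul_cancel _
        have hqQ : q ∈ Q := hpel _ (hXp.to_le inf_le_left)
          (inf_le_right : X.map H1.subtype ⊓ Cv ≤ Cv) ⟨hqX, hqC⟩
        have hqB : q ∈ B := hD0B ⟨hqQ, hCC q hqC (hH1C (map_subtype_le X hqX))⟩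
        simpa [hq] using mul_mem hy hqB }
  have hP1 : (P1 : Subgroup ↥H1) = B.subgroupOf H1 := rfl
  -- the map to `SL2`
  let θ : ↥H1 →* ↥K := (f.comp H1.subtype).codRestrict K fun x => hH1K.le (mem_map_of_mem f x.2)
  have hθ : Function.Surjective θ := by
    rintro ⟨k, hk⟩
    obtain ⟨x, hx, rfl⟩ := hH1K.ge hk
    exact ⟨⟨x, hx⟩, rfl⟩
  set ψ : ↥H1 →* PSLtwo F := proj.comp (χ.comp θ) with hψ
  have hψs : Function.Surjective ψ :=
    SL2.proj_surjective.comp (dd.surjχ.comp hθ)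
  set M1 := M.subgroupOf H1 with hM1
  have hM1ne : M1 ≠ ⊤ := fun h => hH1M (subgroupOf_eq_top.1 h)
  have hP1M : (P1 : Subgroup ↥H1) ≤ M1 := fun x hx => d.le (bMax_le_S hx)
  have hmax1 : ∀ L : Subgroup ↥H1, (P1 : Subgroup ↥H1) ≤ L → L ≠ ⊤ → L ≤ M1 := by
    intro L hPL hL x hx
    by_contra hxM
    have hlt : L.map H1.subtype < H1 := lt_of_le_of_ne (map_subtype_le L) fun he => hL (by
      refine map_injective H1.subtype_injective ?_
      rw [he, ← MonoidHom.range_eq_map, Subgroup.range_subtype])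
    exact hmin (L.map H1.subtype) ⟨fun y hy => ⟨⟨y, hBH hy⟩, hPL hy, rfl⟩,
      (map_subtype_le L).trans hH1le, fun hle => hxM (hle (mem_map_of_mem _ hx))⟩ hlt
  have hOp : ∀ X : Subgroup ↥H1, X.Normal → IsPGroup p X → X ≤ pCore p ↥H1 := fun X hX hXp =>
    @PSolvable.le_pCore _ _ p X hX hXp
  have hD0core : D0.subgroupOf H1 ≤ pCore p ↥H1 := hOp _ inferInstance
    ((hQp.to_le inf_le_left).of_equiv (subgroupOfEquivOfLe (hD0B.trans hBH)).symm)
  have hcent1 : centralizer (pCore p ↥H1 : Set ↥H1) ≤ pCore p ↥H1 := by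
    haveI : (pCore p ↥H1).Normal := @Subgroup.normal_of_characteristic _ _ _ PSolvable.pCore_characteristic
    refine hOp _ inferInstance fun z => ?_
    obtain ⟨k, hk⟩ := Transfer.exists_pow_coprime (p := p) (((z : ↥H1)) : G)
    refine ⟨k, Subtype.ext (Subtype.ext ?_)⟩
    set y := (((z : ↥H1)) : G) ^ p ^ k with hy
    show y = 1
    have hyH : y ∈ H1 := pow_mem (z : ↥H1).2 _
    have hcD : ∀ e ∈ D0, y * e = e * y := by
      intro e he
      have h1 : ((z : ↥H1) ^ p ^ k) * ⟨e, hBH (hD0B he)⟩ = ⟨e, hBH (hD0B he)⟩ * (z : ↥H1) ^ p ^ k :=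
        (mem_centralizer_iff.1 (pow_mem z.2 _) ⟨e, hBH (hD0B he)⟩ (hD0core he)).symm
      simpa [hy] using congrArg Subtype.val h1
    have hyCv : y ∈ Cv := mem_centralizer_iff.2 fun v hv => (hcD v (hVD hv)).symm
    have hyW : y ∈ Cw := hCC y hyCv (hH1C hyH)
    have hyQ : y ∈ centralizer (Q : Set G) := mem_centralizer_iff.2 fun q hq => by
      set e := y * q * y⁻¹ * q⁻¹ with he
      have heQ : e ∈ Q := mul_mem (hQn.conj_mem q hq y) (inv_mem hq)
      have heW : e ∈ Cw := by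
        have h1 := mul_mem hyW ((inferInstance : Cw.Normal).conj_mem _ (inv_mem hyW) q)
        simpa [he, mul_assoc] using h1
      have hn : ∀ g : G, g ∈ normalizer ((⊥ : Subgroup G) : Set G) := fun g =>
        (normalizer_eq_top_iff.2 (inferInstance : (⊥ : Subgroup G).Normal)).symm ▸ mem_top g
      have h1 : e ∈ (⊥ : Subgroup G) := mem_of_stable (d := q) hk (hn _) (hn _)
        ((IsPGroup.iff_orderOf.1 hQp) ⟨e, heQ⟩ |>.imp fun k hk => by rwa [orderOf_mk] at hk)
        (by rw [he]; group) (by rw [mem_bot, hcD e ⟨heQ, heW⟩, mul_inv_cancel_right, mul_inv_cancel])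
      rw [mem_bot, he, mul_inv_eq_one, mul_inv_eq_iff_eq_mul] at h1
      exact h1.symm
    obtain ⟨i, hi⟩ := (IsPGroup.iff_orderOf.1 hQp) ⟨y, d.cent hyQ⟩
    rw [orderOf_mk] at hi
    exact orderOf_eq_one_iff.1 (Nat.eq_one_of_dvd_coprimes (hk.pow_right i) dvd_rfl hi.dvd)
  have hd1 : PushingUp.Data p (P1 : Subgroup ↥H1) M1 n F ψ :=
    ⟨⟨P1, rfl⟩, hcent1, ⟨hM1ne, fun L hlt => by
      by_contra hne
      exact hlt.not_ge (hmax1 L (hP1M.trans hlt.le) hne)⟩, hP1M,
      fun L h1 h2 => ((h1.le_iff.1 (hmax1 L h2 h1.1)).resolve_left hM1ne).symm,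
      hψs, dd.card, by have := dd.pos; omega⟩
  -- subgroups normalized by `S` and normal in `H1`
  have hnormal : ∀ (X : Subgroup G) (Y : Subgroup ↥H1), Y.map H1.subtype = X →
      S ≤ normalizer (X : Set G) → Y.Normal → X.Normal := by
    intro X Y hYX hSN hY
    refine normalizer_eq_top_iff.1 (by_contra fun hne => hH1M ?_)
    refine le_trans ?_ (d.max _ hSN hne)
    have h1 : (X.subgroupOf H1).Normal := by
      rw [← hYX, subgroupOf, comap_map_eq_self_of_injective H1.subtype_injective]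
      exact hY
    exact (normal_subgroupOf_iff_le_normalizer (hYX ▸ map_subtype_le Y)).1 h1
  have hP1map : (P1 : Subgroup ↥H1).map H1.subtype = B := by
    rw [hP1, map_subgroupOf_eq_of_le hBH]
  have hSB : S ≤ normalizer (B : Set G) := by
    have := bMax_char (p := p) (S := S)
    exact (normal_subgroupOf_iff_le_normalizer bMax_le_S).1 inferInstance
  have hk1 : ¬ ((kLoc ↥(P1 : Subgroup ↥H1)).map (P1 : Subgroup ↥H1).subtype).Normal := by
    intro hn
    refine d.nk (hnormal _ _ ?_ (hSB.trans (le_normalizer_kSub S)) hn)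
    rw [kSub, ← kLoc_map (subgroupOfEquivOfLe hBH), map_map, map_map]
    congr 1
  have hz1 : ¬ ((P1 : Subgroup ↥H1) ⊓ centralizer ((P1 : Subgroup ↥H1) : Set ↥H1)).Normal := by
    intro hn
    set ZB := B ⊓ centralizer (B : Set G) with hZB
    haveI hZBn : ZB.Normal := by
      refine hnormal ZB _ ?_ (hSB.trans ?_) hn
      · rw [PushingUp.map_inf_centralizer H1.subtype_injective, hP1map]
      · intro g hg
        refine inf_normalizer_le_normalizer_inf ⟨hg, ?_⟩
        have hle : ∀ u ∈ normalizer (B : Set G), ∀ c ∈ centralizer (B : Set G),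
            u * c * u⁻¹ ∈ centralizer (B : Set G) := fun u hu c hc => mem_centralizer_iff.2 fun b hb => by
          have h1 : u⁻¹ * b * u ∈ B := by
            have := (mem_normalizer_iff.1 (inv_mem hu) b).1 hb
            simpa using this
          have h2 := mem_centralizer_iff.1 hc _ h1
          calc b * (u * c * u⁻¹) = u * ((u⁻¹ * b * u) * c) * u⁻¹ := by group
            _ = u * (c * (u⁻¹ * b * u)) * u⁻¹ := by rw [h2]
            _ = _ := by group
        refine mem_normalizer_iff.2 fun c => ⟨hle g hg c, fun hc => ?_⟩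
        simpa [mul_assoc] using hle g⁻¹ (inv_mem hg) _ hc
    -- elements of order prime to `p` centralize `zMax`
    have hCS : centralizer (ZB : Set G) ⊔ S = ⊤ := by
      obtain ⟨A, hA, hAQ⟩ := m1.exists_not_le
      exact d.sup_eq_top fun hle => hAQ fun a ha => hle ⟨mem_centralizer_iff.2
        fun b hb => (mem_centralizer_iff.1 hb.2 a (maxEl_le_bMax hA ha)).symm, hA.1 ha⟩
    have hco : ∀ t : G, (orderOf t).Coprime p → ∀ c ∈ zMax p S, t * c = c * t := by
      intro t ht c hc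
      refine (mem_centralizer_iff.1 (d.coprime_mem hCS ht) c ⟨⟨zMax_le_S hc, mem_centralizer_iff.2
        fun z hz => el_comm zMax_el hz hc⟩, ?_⟩).symm
      exact mem_centralizer_iff.2 fun b hb => (mem_centralizer_iff.1 hb.2 c hc).symm
    -- the stabilizer of `V` and `V ∩ zMax`
    let N : Subgroup G :=
      { carrier := {g | ∀ v ∈ V, g * v * g⁻¹ * v⁻¹ ∈ V ⊓ zMax p S}
        one_mem' := fun v _ => by simp
        mul_mem' := fun {a b} ha hb v hv => by
          have h1 := mul_mem (ha _ (m1.normalV.conj_mem v hv b)) (hb v hv)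
          simpa [mul_assoc] using h1
        inv_mem' := fun {a} ha v hv => by
          have h1 := inv_mem (ha _ (m1.normalV.conj_mem v hv a⁻¹))
          simpa [mul_assoc] using h1 }
    have hC0 : (V ⊓ zMax p S).Normal := by
      refine normalizer_eq_top_iff.1 (top_unique fun g _ => ?_)
      obtain ⟨l, hl, s, hs, rfl⟩ := mem_sup_of_normal_left.1 (hCS.symm ▸ mem_top g)
      refine mul_mem (centralizer_le_normalizer _ (centralizer_le ?_ hl)) ?_
      · intro c hc
        exact ⟨⟨zMax_le_S hc.2, mem_centralizer_iff.2 fun z hz => el_comm zMax_el hz hc.2⟩,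
          mem_centralizer_iff.2 fun b hb => (mem_centralizer_iff.1 hb.2 c hc.2).symm⟩
      · refine inf_normalizer_le_normalizer_inf ⟨?_, ?_⟩
        · exact normalizer_eq_top_iff.2 m1.normalV ▸ mem_top s
        · have := zMax_char (p := p) (S := S)
          exact (normal_subgroupOf_iff_le_normalizer zMax_le_S).1 inferInstance hs
    haveI hNn : N.Normal := ⟨fun a ha g v hv => by
      have h1 := hC0.conj_mem _ (ha _ (m1.normalV.conj_mem v hv g⁻¹)) g
      simpa [mul_assoc] using h1⟩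
    obtain ⟨A, hA, hAQ⟩ := m1.exists_not_le
    have hAN : A ≤ N := fun a ha v hv => by
      have haV : a * v * a⁻¹ * v⁻¹ ∈ V := mul_mem (m1.normalV.conj_mem v hv a) (inv_mem hv)
      refine ⟨haV, m1.fixP _ haV fun A' hA' => mem_centralizer_iff.2 fun y hy => ?_⟩
      exact dd.quad a (dd.image.le (mem_map_of_mem f (maxEl_le_bMax hA ha))) v hv y
        (dd.image.le (mem_map_of_mem f (maxEl_le_bMax hA' hy)))
    have hNS : N ⊔ S = ⊤ := d.sup_eq_top fun hle => hAQ fun a ha => hle ⟨hAN ha, hA.1 ha⟩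
    have hcoV : ∀ t : G, (orderOf t).Coprime p → t ∈ Cv := by
      intro t ht
      refine mem_centralizer_iff.2 fun v hv => ?_
      set a := t * v * t⁻¹ * v⁻¹ with ha
      have hav := d.coprime_mem hNS ht v hv
      have hn : ∀ g : G, g ∈ normalizer ((⊥ : Subgroup G) : Set G) := fun g =>
        (normalizer_eq_top_iff.2 (inferInstance : (⊥ : Subgroup G).Normal)).symm ▸ mem_top g
      have h1 : a ∈ (⊥ : Subgroup G) := by
        refine mem_of_stable (d := v) ht (hn t) (hn a)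
          ((IsPGroup.iff_orderOf.1 hQp) ⟨a, m1.leQ hav.1⟩ |>.imp fun k hk => by rwa [orderOf_mk] at hk)
          (by rw [ha]; group) ?_
        rw [mem_bot, hco t ht a hav.2, mul_inv_cancel_right, mul_inv_cancel]
      rw [mem_bot, ha, mul_inv_eq_one, mul_inv_eq_iff_eq_mul] at h1
      exact h1.symm
    obtain ⟨g, hgK, hgM⟩ := dd.exists_b
    refine d.ne (top_unique fun y _ => ?_)
    obtain ⟨k, hk⟩ := Transfer.exists_pow_coprime (p := p) y
    obtain ⟨T, hT⟩ := d.sylow
    let πv := QuotientGroup.mk' Cv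
    have hquot : IsPGroup p (G ⧸ Cv) := by
      rintro ⟨z⟩
      obtain ⟨k, hk⟩ := Transfer.exists_pow_coprime (p := p) z
      exact ⟨k, (QuotientGroup.eq_one_iff (z ^ p ^ k)).2 (hcoV _ hk)⟩
    have hTπ : ((T.mapSurjective (QuotientGroup.mk'_surjective Cv)) : Subgroup (G ⧸ Cv)) = ⊤ :=
      ((T.mapSurjective (QuotientGroup.mk'_surjective Cv)).is_maximal'
        (hquot.to_subgroup ⊤) le_top).symm
    obtain ⟨t, ht, hte⟩ : πv y ∈ (T : Subgroup G).map πv := by
      rw [← Sylow.coe_mapSurjective (QuotientGroup.mk'_surjective Cv), hTπ]; exact mem_top _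
    have h4 : y * t⁻¹ ∈ Cv := (QuotientGroup.eq_one_iff _).1 (by
      show πv _ = 1
      rw [map_mul, map_inv, hte, mul_inv_cancel])
    have h5 := mul_mem (m1.leM h4) (d.le (hT ▸ ht : t ∈ S))
    rwa [inv_mul_cancel_right] at h5
  obtain ⟨σ, hσco, hσM, hσ1, hσ2, hσR⟩ := exists_move hp hd1 hz1 hk1
  -- the subgroup `R`
  set N0 := (closure ({j, j₁} : Set H)).comap f with hN0
  have hN0M : N0 ≤ M := fun x hx => hM x ((closure_le _).2 (by
    rintro y (rfl | rfl)
    · exact dd.mem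
    · exact dd.mem₁M) hx)
  set R := ⁅Q, N0⁆ with hR
  have hRQ : R ≤ Q := commutator_le_left Q N0
  have hRΩ : R ≤ Ω := commutator_le.2 fun q hq h hh => by
    have h1 := hΩ q⁻¹ (inv_mem hq) h (hN0M hh)
    simpa [commutatorElement_def, mul_assoc] using h1
  have hnormR : ∀ x : G, (∀ y ∈ N0, x * y * x⁻¹ ∈ N0) → x ∈ normalizer (R : Set G) := by
    intro x hx
    refine mem_normalizer_iff_map_conj_eq.2 (Subgroup.eq_of_le_of_card_ge ?_
      (card_map_of_injective (MulAut.conj x).injective).ge)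
    rw [hR, map_commutator]
    refine commutator_mono ?_ ?_
    · rintro _ ⟨q, hq, rfl⟩
      exact hQn.conj_mem q hq x
    · rintro _ ⟨y, hy, rfl⟩
      exact hx y hy
  have hH1R : ∀ x ∈ H1, x ∈ normalizer (R : Set G) := fun x hx => hnormR x fun y hy => by
    have hxK : f x ∈ K := hH1K.le (mem_map_of_mem f hx)
    have hcomm : f x * f y = f y * f x := by
      have hle : closure ({j, j₁} : Set H) ≤ centralizer ({f x} : Set H) := (closure_le _).2 (by
        rintro z (rfl | rfl)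
        · exact mem_centralizer_singleton_iff.2 (dd.central (f x)).symm
        · exact mem_centralizer_singleton_iff.2 (dd.central₁ (f x) hxK).symm)
      exact (mem_centralizer_singleton_iff.1 (hle hy)).symm
    show x * y * x⁻¹ ∈ (closure ({j, j₁} : Set H)).comap f
    rw [mem_comap]
    rw [map_mul, map_mul, map_inv, hcomm, mul_inv_cancel_right]
    exact hy
  have hQR : ∀ x ∈ Q, x ∈ normalizer (R : Set G) := fun x hx => hnormR x fun y hy => by
    show x * y * x⁻¹ ∈ (closure ({j, j₁} : Set H)).comap f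
    rw [mem_comap]
    rw [map_mul, map_mul, map_inv, show f x = 1 from MonoidHom.mem_ker.1 (dd.ker.symm ▸ m1.centV hx),
      inv_one, one_mul, mul_one]
    exact hy
  -- an element of order prime to `p` outside `M`
  set x := (σ : G) with hx
  have hxH : x ∈ H1 := σ.2
  have hxM : x ∉ M := fun h => hσM h
  have hxco : (orderOf x).Coprime p := by rwa [hx, orderOf_coe]
  have hxK : f x ∈ K := hH1K.le (mem_map_of_mem f hxH)
  have hxR := hH1R x hxH
  have hQel : ∀ e ∈ Q, ∃ k : ℕ, orderOf e = p ^ k := fun e he =>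
    (IsPGroup.iff_orderOf.1 hQp) ⟨e, he⟩ |>.imp fun k hk => by rwa [orderOf_mk] at hk
  -- `[Q, x]` is inside `D0 R`
  set Q1 := Q ⊓ Kc with hQ1
  haveI hQ1n : Q1.Normal := inferInstance
  have hxKc : x ∈ Kc := hK' x hxco
  have hstep₁ : ∀ q ∈ Q1, x * q * x⁻¹ * q⁻¹ ∈ D0 ⊔ R := by
    intro q hq1
    have hq : q ∈ Q := hq1.1
    set e := x * q * x⁻¹ * q⁻¹ with he
    set r := jj * q * jj⁻¹ * q⁻¹ with hr
    have he1 : e ∈ Q1 := mul_mem (hQ1n.conj_mem q hq1 x) (inv_mem hq1)
    have hr1 : r ∈ Q1 := mul_mem (hQ1n.conj_mem q hq1 jj) (inv_mem hq1)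
    have heQ : e ∈ Q := he1.1
    have hrQ : r ∈ Q := hr1.1
    have hrR : r ∈ R := by
      have h1 : ⁅q, jj⁆ ∈ R := commutator_mem_commutator hq
        (show f jj ∈ closure ({j, j₁} : Set H) from hjj ▸ subset_closure (Or.inl rfl))
      have h2 := inv_mem h1
      simpa [hr, commutatorElement_def, mul_assoc] using h2
    set y := e * e * (x * r * x⁻¹ * r⁻¹) with hy
    have hxr : x * r * x⁻¹ ∈ R := (mem_normalizer_iff.1 hxR r).1 hrR
    have hy1 : y ∈ Q1 := mul_mem (mul_mem he1 he1) (mul_mem (hQ1n.conj_mem r hr1 x) (inv_mem hr1))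
    have hyQ : y ∈ Q := hy1.1
    have hyC : y ∈ centralizer (C : Set G) := by
      refine mem_centralizer_iff.2 fun c hc => ?_
      letI : CommGroup V := { (inferInstance : Group V) with
        mul_comm := fun a b => m1.elV.1.is_comm.comm a b }
      have hcW : c ∈ W := hc.1
      have hA : ∀ t ∈ Q1, t * c * t⁻¹ * c⁻¹ ∈ V := fun t ht => m2.act t ht.2 c hcW
      let α : G → V := fun t => if h : t ∈ Q1 then ⟨_, hA t h⟩ else 1
      have hα : ∀ t (ht : t ∈ Q1), ((α t : V) : G) = t * c * t⁻¹ * c⁻¹ := fun t ht => by simp [α, ht]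
      have hαmul : ∀ s t, s ∈ Q1 → t ∈ Q1 → α (s * t) = α t * α s := by
        intro s t hs ht
        refine Subtype.ext ?_
        rw [Subgroup.coe_mul, hα _ (mul_mem hs ht), hα s hs, hα t ht]
        have h1 : s * (t * c * t⁻¹ * c⁻¹) = (t * c * t⁻¹ * c⁻¹) * s :=
          (mem_centralizer_iff.1 (m1.centV hs.1) _ (hA t ht)).symm
        calc s * t * c * (s * t)⁻¹ * c⁻¹ = s * (t * c * t⁻¹ * c⁻¹) * c * s⁻¹ * c⁻¹ := by group
          _ = _ := by rw [h1]; group
      have hαinv : ∀ s, s ∈ Q1 → α s⁻¹ = (α s)⁻¹ := by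
        intro s hs
        have h1 := hαmul s s⁻¹ hs (inv_mem hs)
        have h2 : α 1 = 1 := Subtype.ext (by rw [hα 1 (one_mem Q1)]; simp)
        rw [mul_inv_cancel, h2] at h1
        exact eq_inv_of_mul_eq_one_left h1.symm
      let cj : G → V → V := fun h a => ⟨h * a * h⁻¹, m1.normalV.conj_mem a a.2 h⟩
      have hαconj : ∀ h s, h * c = c * h → s ∈ Q1 → α (h * s * h⁻¹) = cj h (α s) := by
        intro h s hh hs
        refine Subtype.ext ?_
        show ((α (h * s * h⁻¹) : V) : G) = h * (α s : V) * h⁻¹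
        rw [hα _ (hQ1n.conj_mem s hs h), hα s hs]
        have h2 : h⁻¹ * c * h = c := by rw [mul_assoc, ← hh, inv_mul_cancel_left]
        calc h * s * h⁻¹ * c * (h * s * h⁻¹)⁻¹ * c⁻¹ = h * s * (h⁻¹ * c * h) * s⁻¹ * h⁻¹ * c⁻¹ := by group
          _ = h * (s * c * s⁻¹ * c⁻¹) * h⁻¹ := by
              rw [h2]
              calc h * s * c * s⁻¹ * h⁻¹ * c⁻¹ = h * s * c * s⁻¹ * (c * h)⁻¹ := by group
                _ = h * s * c * s⁻¹ * (h * c)⁻¹ := by rw [hh]
                _ = h * (s * c * s⁻¹ * c⁻¹) * h⁻¹ := by group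
      have hcj : ∀ h a b, cj h (a * b) = cj h a * cj h b := fun h a b => Subtype.ext (by
        simp [cj, mul_assoc])
      have hxc : x * c = c * x := (mem_centralizer_iff.1 (hH1C hxH) c hc).symm
      have hjc : jj * c = c * jj := (mem_centralizer_singleton_iff.1 hc.2).symm
      set a := α q with ha
      set a' := cj jj a with ha'
      have hfix : cj x (a * a') = a * a' := by
        refine Subtype.ext ?_
        have h1 := dd.fixed jj hjj (a : G) a.2 x hxK
        show x * ((a * a' : V) : G) * x⁻¹ = ((a * a' : V) : G)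
        rw [Subgroup.coe_mul, show ((a' : V) : G) = jj * (a : G) * jj⁻¹ from rfl, h1, mul_inv_cancel_right]
      have hae : α e = a⁻¹ * cj x a := by
        rw [he, hαmul _ _ (hQ1n.conj_mem q hq1 x) (inv_mem hq1), hαinv q hq1, hαconj x q hxc hq1]
      have har : α r = a⁻¹ * a' := by
        rw [hr, hαmul _ _ (hQ1n.conj_mem q hq1 jj) (inv_mem hq1), hαinv q hq1, hαconj jj q hjc hq1]
      have hay : α y = 1 := by
        rw [hy, hαmul _ _ (mul_mem he1 he1) (mul_mem (hQ1n.conj_mem r hr1 x) (inv_mem hr1)),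
          hαmul _ _ he1 he1, hαmul _ _ (hQ1n.conj_mem r hr1 x) (inv_mem hr1), hαinv r hr1,
          hαconj x r hxc hr1, hae, har, hcj]
        have h3 : cj x a⁻¹ = (cj x a)⁻¹ := Subtype.ext (by simp [cj, mul_assoc])
        rw [hcj] at hfix
        rw [h3]
        rw [comm_identity, hfix, inv_mul_cancel]
      have h4 : ((α y : V) : G) = 1 := by rw [hay]; rfl
      rw [hα y hy1, mul_inv_eq_one, mul_inv_eq_iff_eq_mul] at h4
      exact h4.symm
    have hyD : y ∈ D0 := ⟨hyQ, hCC y (m1.centV hyQ) hyC⟩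
    refine mem_of_mul_self hp (hQel e heQ) ?_
    have h5 : e * e = y * (x * r * x⁻¹ * r⁻¹)⁻¹ := by rw [hy, mul_inv_cancel_right]
    rw [h5]
    exact mul_mem (mem_sup_left hyD) (mem_sup_right (inv_mem (mul_mem hxr (inv_mem hrR))))
  have hstep : ∀ q ∈ Q, x * q * x⁻¹ * q⁻¹ ∈ D0 ⊔ R := by
    intro q hq
    set e := x * q * x⁻¹ * q⁻¹ with he
    have heQ : e ∈ Q := mul_mem (hQn.conj_mem q hq x) (inv_mem hq)
    have heK : e ∈ Kc := by
      have h1 := mul_mem hxKc (m2.normalK.conj_mem _ (inv_mem hxKc) q)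
      simpa [he, mul_assoc] using h1
    refine mem_of_stable (d := q) hxco ?_ ?_ (hQel e heQ) (by rw [he]; group) (hstep₁ e ⟨heQ, heK⟩)
    · refine mem_normalizer_iff_map_conj_eq.2 ?_
      rw [Subgroup.map_sup]
      exact congrArg₂ (· ⊔ ·) (mem_normalizer_iff_map_conj_eq.1
        (normalizer_eq_top_iff.2 hD0n ▸ mem_top x)) (mem_normalizer_iff_map_conj_eq.1 hxR)
    · refine mem_normalizer_iff_map_conj_eq.2 ?_
      rw [Subgroup.map_sup]
      exact congrArg₂ (· ⊔ ·) (mem_normalizer_iff_map_conj_eq.1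
        (normalizer_eq_top_iff.2 hD0n ▸ mem_top e)) (mem_normalizer_iff_map_conj_eq.1 (hQR e heQ))
  -- `[D0, x]` is inside `R`
  have hxx : f (x * x) = j₁ := by
    have hcases : ∀ t : SLtwo F, proj t = 1 → t = 1 ∨ t = -1 := fun t ht =>
      (SL2.mem_center_iff_eq _).1 (SL2.proj_eq_one_iff.1 ht)
    have hj1 : χ ⟨j₁, dd.mem₁⟩ = -1 := by
      refine ((SL2.mem_center_iff_eq _).1 (mem_center_iff.2 fun s => ?_)).resolve_left dd.ne_one
      obtain ⟨t, rfl⟩ := dd.surjχ s
      rw [← map_mul, ← map_mul]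
      exact congrArg χ (Subtype.ext (dd.central₁ t t.2))
    set s := χ (θ σ) with hs
    have hs2 : s * s = -1 := by
      refine (hcases (s * s) (by rw [hs, ← map_mul, ← map_mul]; exact hσ2)).resolve_left fun h1 => ?_
      refine hσ1 ?_
      show proj s = 1
      rw [SL2.proj_eq_one_iff, SL2.mem_center_iff_eq]
      -- an involution of `SL₂` is scalar
      have hM : (s : Matrix (Fin 2) (Fin 2) F) * s = 1 := congrArg Subtype.val h1
      have hCH := SL2.cayley_hamilton s
      rw [hM] at hCH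
      have h2F : (2 : F) ≠ 0 := by
        haveI : CharP F p := charP_of_card_eq_prime_pow dd.card
        intro h0
        have : ((2 : ℕ) : F) = 0 := by exact_mod_cast h0
        rw [CharP.cast_eq_zero_iff F p] at this
        exact hp ((Nat.prime_dvd_prime_iff_eq Fact.out Nat.prime_two).1 this)
      exact involution_scalar h2F s hM
    obtain ⟨i, hi⟩ := dd.kerp ⟨θ (σ * σ) * ⟨j₁, dd.mem₁⟩⁻¹, by
      rw [MonoidHom.mem_ker, map_mul, map_inv, hj1, map_mul, map_mul, ← hs, hs2, mul_inv_cancel]⟩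
    have hi' : ((θ (σ * σ) * ⟨j₁, dd.mem₁⟩⁻¹ : ↥K) : H) ^ p ^ i = 1 := by
      rw [← SubgroupClass.coe_pow]
      exact congrArg Subtype.val (congrArg Subtype.val hi)
    have hfx : f x * f x * j₁⁻¹ = ((θ (σ * σ) * ⟨j₁, dd.mem₁⟩⁻¹ : ↥K) : H) := by
      rw [map_mul]; rfl
    rw [← hfx] at hi'
    set w := f x * f x * j₁⁻¹ with hw
    have hc : Commute (f x * f x) j₁⁻¹ :=
      (show Commute (f x * f x) j₁ from dd.central₁ _ (mul_mem hxK hxK)).inv_right
    have hjsq : j₁ ^ 2 = 1 := by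
      exact dd.sq₁
    have hord : orderOf w ∣ orderOf (f x) * 2 := by
      refine orderOf_dvd_of_pow_eq_one ?_
      rw [hw, hc.mul_pow, inv_pow, pow_mul, pow_mul j₁, ← pow_two (f x), ← pow_mul (f x),
        mul_comm 2 (orderOf (f x)), pow_mul (f x), pow_orderOf_eq_one, one_pow, one_pow, one_mul,
        pow_right_comm, hjsq, one_pow, inv_one]
    have hco2 : (orderOf (f x) * 2).Coprime (p ^ i) := Nat.Coprime.mul_left
      ((Nat.Coprime.coprime_dvd_left (orderOf_map_dvd f x) hxco).pow_right i)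
      (((Nat.coprime_primes Nat.prime_two Fact.out).2 (Ne.symm hp)).pow_right i)
    have hw1 : w = 1 := orderOf_eq_one_iff.1
      (Nat.eq_one_of_dvd_coprimes hco2 hord (orderOf_dvd_of_pow_eq_one hi'))
    rw [map_mul]
    exact mul_inv_eq_one.1 hw1
  have hxxN : x * x ∈ N0 := by
    show f (x * x) ∈ closure ({j, j₁} : Set H)
    rw [hxx]
    exact Subgroup.subset_closure (show j₁ ∈ ({j, j₁} : Set H) from Or.inr rfl)
  have hD0R : ∀ e ∈ D0, x * e * x⁻¹ * e⁻¹ ∈ R := by
    intro e he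
    have h1 := hσR (R.subgroupOf H1) (D0.subgroupOf H1) inferInstance hD0core ?_ ?_ ?_
      ⟨e, hBH (hD0B he)⟩ (mem_subgroupOf.2 he)
    · simpa [commutatorElement_def] using mem_subgroupOf.1 h1
    · refine mem_normalizer_iff.2 fun y => ?_
      simp only [mem_subgroupOf, Subgroup.coe_mul, InvMemClass.coe_inv]
      exact mem_normalizer_iff.1 hxR y
    · intro z hz
      refine mem_normalizer_iff.2 fun y => ?_
      simp only [mem_subgroupOf, Subgroup.coe_mul, InvMemClass.coe_inv]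
      exact mem_normalizer_iff.1 (hQR z (mem_subgroupOf.1 hz).1) y
    · intro y hy
      rw [mem_subgroupOf]
      have h2 : ⁅(y : G), x * x⁆ ∈ R := commutator_mem_commutator (mem_subgroupOf.1 hy).1 hxxN
      have h3 := inv_mem h2
      rw [commutatorElement_inv] at h3
      simpa [commutatorElement_def, mul_assoc] using h3
  refine ⟨x, hxM, fun z hz => ?_⟩
  set e := x * z * x⁻¹ * z⁻¹ with he
  have heQ : e ∈ Q := mul_mem (hQn.conj_mem z hz x) (inv_mem hz)
  have heR : e ∈ R := by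
    refine mem_of_stable (d := z) hxco hxR (hQR _ heQ) (hQel _ heQ) (by rw [he]; group) ?_
    obtain ⟨d0, hd0, r, hr, hdr⟩ := mem_sup_of_normal_left.1 (hstep z hz)
    have h1 : x * d0 * x⁻¹ * d0⁻¹ ∈ R := hD0R d0 hd0
    have h2 : x * r * x⁻¹ * r⁻¹ ∈ R := mul_mem ((mem_normalizer_iff.1 hxR r).1 hr) (inv_mem hr)
    have h3 := mul_mem h1 ((mem_normalizer_iff.1 (hQR d0 hd0.1) _).1 h2)
    rw [show e = d0 * r from hdr.symm]
    simpa [mul_assoc] using h3
  refine hRΩ ?_
  have h4 := (mem_normalizer_iff.1 (hQR z⁻¹ (inv_mem hz)) e).1 heR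
  simpa [he, mul_assoc] using h4

end Cfsg.Agent.Lib.FocalChar
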