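import Mathlib
import Cfsg.Prelude.Def_Transfer

/-!
# Elements of order prime to `p` stabilising a step
-/

set_option autoImplicit false
set_option linter.unusedSectionVars false

namespace Cfsg.Agent.Lib.FocalChar

open Subgroup

variable {G : Type*} [Group G] [Finite G] {p : ℕ} [Fact p.Prime]

/-- An element of order prime to `p` that moves `a` and `d` only as prescribed centralises. -/
theorem mem_of_stable {R : Subgroup G} {x d a : G} (hx : (orderOf x).Coprime p)
    (hxR : x ∈ normalizer (R : Set G)) (haR : a ∈ normalizer (R : Set G))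
    (ha : ∃ k : ℕ, orderOf a = p ^ k) (h1 : x * d * x⁻¹ = a * d) (h2 : x * a * x⁻¹ * a⁻¹ ∈ R) :
    a ∈ R := by
  set N := normalizer (R : Set G)
  let π := QuotientGroup.mk' (R.subgroupOf N)
  set A : N := ⟨a, haR⟩
  set X : N := ⟨x, hxR⟩
  have hc : π X * π A * (π X)⁻¹ = π A := by
    rw [← map_inv, ← map_mul, ← map_mul, ← mul_inv_eq_one, ← map_inv, ← map_mul]
    exact (QuotientGroup.eq_one_iff _).2 (mem_subgroupOf.2 (by simpa [X, A] using h2))
  have key : ∀ k : ℕ, ∃ e : N, x ^ k * d * (x ^ k)⁻¹ = (e : G) * d ∧ π e = π A ^ k := by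
    intro k
    induction k with
    | zero => exact ⟨1, by simp, by simp⟩
    | succ k ih =>
      obtain ⟨e, he, hπ⟩ := ih
      refine ⟨X * e * X⁻¹ * A, ?_, ?_⟩
      · calc x ^ (k + 1) * d * (x ^ (k + 1))⁻¹ = x * (x ^ k * d * (x ^ k)⁻¹) * x⁻¹ := by
              rw [pow_succ']; group
          _ = x * (e : G) * x⁻¹ * (x * d * x⁻¹) := by rw [he]; group
          _ = ((X * e * X⁻¹ * A : N) : G) * d := by rw [h1]; simp [X, A, mul_assoc]
      · rw [map_mul, map_mul, map_mul, map_inv, hπ, pow_succ, ← conj_pow, hc]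
  obtain ⟨e, he, hπ⟩ := key (orderOf x)
  rw [pow_orderOf_eq_one, one_mul, inv_one, mul_one, eq_comm, mul_eq_right] at he
  rw [show e = 1 from Subtype.ext he, map_one] at hπ
  obtain ⟨k, hk⟩ := ha
  have hA : π A ^ p ^ k = 1 := by
    rw [← map_pow, show A ^ p ^ k = 1 from Subtype.ext (by simp [A, ← hk, pow_orderOf_eq_one]),
      map_one]
  have h3 : π A = 1 := orderOf_eq_one_iff.1 (Nat.eq_one_of_dvd_coprimes (hx.pow_right k)
    (orderOf_dvd_of_pow_eq_one hπ.symm) (orderOf_dvd_of_pow_eq_one hA))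
  exact mem_subgroupOf.1 ((QuotientGroup.eq_one_iff A).1 h3)

end Cfsg.Agent.Lib.FocalChar
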