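import Cfsg.Agent.Lib.GNilesMax.Move
import Cfsg.Agent.Lib.FocalChar.Stable
import Cfsg.Agent.Lib.PSolvable.Core
import Cfsg.Agent.Lib.PushingUp.Main
import Cfsg.Agent.S3007

/-!
# The derived subgroup of the minimal centrally large subgroups, or the Thompson subgroup

In a rank one group in which neither this subgroup nor the centre of the Sylow group is normal,
some element of order prime to `p` has a square without fixed points above the centralised part.
-/

set_option autoImplicit false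
set_option linter.unusedSectionVars false

namespace Cfsg.Agent.Lib.FocalChar

open Subgroup Cfsg
open Cfsg.Agent.Lib
open Cfsg.Agent.Lib.SL2 (PSLtwo)
open scoped commutatorElement

variable {p : ℕ} [hp : Fact p.Prime]

/-- The join of the derived subgroups of the minimal centrally large subgroups. -/
def derMcl (P : Type*) [Group P] : Subgroup P :=
  ⨆ X : {X : Subgroup P // IsMinimalCentrallyLarge X}, ⁅(X : Subgroup P), (X : Subgroup P)⁆

open _root_.Classical in
/-- `derMcl P`, or `J(P)` if that is trivial. -/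
noncomputable def kLoc (P : Type*) [Group P] : Subgroup P :=
  if derMcl P = ⊥ then thompsonSubgroupA P else derMcl P

section Natural

variable {H K : Type*} [Group H] [Group K] [Finite H] [Finite K]

theorem mcl_map_equiv (e : H ≃* K) {Y : Subgroup H} (hY : IsMinimalCentrallyLarge Y) :
    IsMinimalCentrallyLarge (Y.map e.toMonoidHom) := by
  have hm : maxCentralProduct K = maxCentralProduct H := by
    unfold maxCentralProduct
    congr 1
    ext k
    constructor
    · rintro ⟨R, hR⟩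
      refine ⟨R.map e.symm.toMonoidHom, ?_⟩
      rwa [PushingUp.measure_map (f := e.symm.toMonoidHom) e.symm.injective]
    · rintro ⟨R, hR⟩
      refine ⟨R.map e.toMonoidHom, ?_⟩
      rwa [PushingUp.measure_map (f := e.toMonoidHom) e.injective]
  have hcl : ∀ R : Subgroup H, IsCentrallyLarge (R.map e.toMonoidHom) ↔ IsCentrallyLarge R :=
    fun R => by
      unfold IsCentrallyLarge
      rw [PushingUp.measure_map (f := e.toMonoidHom) e.injective, hm]
  refine ⟨(hcl Y).2 hY.1, fun R hR hRC => ?_⟩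
  have hRe : (R.comap e.toMonoidHom).map e.toMonoidHom = R :=
    map_comap_eq_self_of_surjective e.surjective R
  rw [← hRe] at hRC ⊢
  rw [hY.2 _ (fun x hx => ?_) ((hcl _).1 hRC)]
  obtain ⟨y, hy, e1⟩ := hR hx
  exact e.injective e1 ▸ hy

theorem derMcl_map (e : H ≃* K) : (derMcl H).map e.toMonoidHom = derMcl K := by
  refine le_antisymm ?_ ?_
  · rw [derMcl, Subgroup.map_iSup]
    refine iSup_le fun X => ?_
    rw [map_commutator]
    exact le_iSup (fun X : {X : Subgroup K // IsMinimalCentrallyLarge X} =>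
      ⁅(X : Subgroup K), (X : Subgroup K)⁆) ⟨_, mcl_map_equiv e X.2⟩
  · refine iSup_le fun X => ?_
    have h1 := mcl_map_equiv e.symm X.2
    have h2 : ((X : Subgroup K).map e.symm.toMonoidHom).map e.toMonoidHom = X := by
      rw [map_map]
      convert Subgroup.map_id (X : Subgroup K)
      ext x
      simp
    rw [← h2, ← map_commutator]
    exact map_mono (le_iSup (fun X : {X : Subgroup H // IsMinimalCentrallyLarge X} =>
      ⁅(X : Subgroup H), (X : Subgroup H)⁆) ⟨_, h1⟩)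

theorem maxAbelian_map (e : H ≃* K) {A : Subgroup H} (hA : A ∈ maxAbelianSubgroups H) :
    A.map e.toMonoidHom ∈ maxAbelianSubgroups K := by
  haveI := hA.1
  refine ⟨Subgroup.map_isMulCommutative A e.toMonoidHom, fun B hB => ?_⟩
  haveI := hB
  rw [card_map_of_injective (f := e.toMonoidHom) e.injective,
    ← card_map_of_injective (K := B) (f := e.symm.toMonoidHom) e.symm.injective]
  exact hA.2 _ (Subgroup.map_isMulCommutative B e.symm.toMonoidHom)

theorem thompsonA_map (e : H ≃* K) :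
    (thompsonSubgroupA H).map e.toMonoidHom = thompsonSubgroupA K := by
  refine le_antisymm ?_ ?_
  · rw [map_le_iff_le_comap]
    refine sSup_le fun A hA => ?_
    rw [← map_le_iff_le_comap]
    exact le_sSup (maxAbelian_map e hA)
  · refine sSup_le fun A hA => ?_
    have h2 : (A.map e.symm.toMonoidHom).map e.toMonoidHom = A := by
      rw [map_map]
      convert Subgroup.map_id A
      ext x
      simp
    rw [← h2]
    exact map_mono (le_sSup (maxAbelian_map e.symm hA))

theorem kLoc_map (e : H ≃* K) : (kLoc H).map e.toMonoidHom = kLoc K := by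
  have h : derMcl H = ⊥ ↔ derMcl K = ⊥ := by
    rw [← derMcl_map e, Subgroup.map_eq_bot_iff_of_injective _ (f := e.toMonoidHom) e.injective]
  rw [kLoc, kLoc]
  by_cases hb : derMcl H = ⊥
  · rw [if_pos hb, if_pos (h.1 hb), thompsonA_map e]
  · rw [if_neg hb, if_neg fun hk => hb (h.2 hk), derMcl_map e]

theorem kLoc_characteristic : (kLoc H).Characteristic :=
  characteristic_iff_map_eq.2 fun φ => kLoc_map φ

theorem kLoc_ne_bot [Nontrivial H] : kLoc H ≠ ⊥ := by
  rw [kLoc]
  by_cases hb : derMcl H = ⊥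
  · rw [if_pos hb]
    obtain ⟨A, hA⟩ := CD.exists_mem_maxAbelianSubgroups (G := H)
    intro h0
    obtain ⟨x, hx⟩ := exists_ne (1 : H)
    have hAbot : A = ⊥ := le_bot_iff.1 (h0 ▸ le_sSup hA)
    have h1 := hA.2 (zpowers x) inferInstance
    rw [hAbot, card_bot, Nat.card_zpowers] at h1
    exact hx (orderOf_eq_one_iff.1 (le_antisymm h1 (orderOf_pos x)))
  · rw [if_neg hb]; exact hb

end Natural

variable {G : Type*} [Group G] [Finite G] {S M : Subgroup G} {n : ℕ} {F : Type} [Field F] [Fintype F]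
  {ψ : G →* PSLtwo F}

/-- If neither `Z(S)` nor `kLoc S` is normal, some abelian subgroup of largest order and largest
measure lies outside `O_p(G)`. -/
theorem exists_base (d : PushingUp.Data p S M n F ψ)
    (hn : ¬ (S ⊓ centralizer (S : Set G)).Normal) (hk : ¬ ((kLoc ↥S).map S.subtype).Normal) :
    GNilesMax.Sat S ∧ ∃ A, GNiles.IsLag S A ∧ ¬ A ≤ pCore p G := by
  obtain ⟨V, hVn, hVD, hDV, hVp, hCV⟩ := d.exists_elementary hn
  have hg := d.good hVD hDV hVp hCV
  have hS := d.isPGroup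
  have hconj : ∀ X : Subgroup S, IsMinimalCentrallyLarge X → X ≤ (pCore p G).subgroupOf S →
      ∀ g : G, ((⁅X, X⁆).map S.subtype).map (MulAut.conj g).toMonoidHom = (⁅X, X⁆).map S.subtype := by
    intro X hX hXD g
    obtain ⟨X', hX', hX'e, -, -⟩ := d.exists_conj hX hXD g
    conv_rhs => rw [(S3007.result (p := p) (↥S) hS X X' hX hX').2.1, map_commutator, hX'e]
    rw [map_commutator, map_commutator]
  have hder : derMcl ↥S = ⊥ := by
    by_contra hne
    apply hk
    rw [kLoc, if_neg hne]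
    obtain ⟨R₀, hR₀⟩ := CD.exists_centrallyLarge (G := ↥S)
    obtain ⟨Q, -, hQ⟩ := CD.exists_minimalCentrallyLarge_le hR₀
    obtain ⟨X, hX, hXD⟩ : ∃ X : Subgroup S, IsMinimalCentrallyLarge X ∧
        X ≤ (pCore p G).subgroupOf S := by
      by_cases hQD : Q ≤ (pCore p G).subgroupOf S
      · exact ⟨Q, hQ, hQD⟩
      · obtain ⟨hR, hRD, -⟩ := PushingUp.replace_facts hg hS hQ hQD
        exact ⟨_, hR, hRD⟩
    have he : derMcl ↥S = ⁅X, X⁆ := le_antisymm
      (iSup_le fun Y => ((S3007.result (p := p) (↥S) hS Y X Y.2 hX).2.1).le)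
      (le_iSup (fun X : {X : Subgroup ↥S // IsMinimalCentrallyLarge X} =>
        ⁅(X : Subgroup ↥S), (X : Subgroup ↥S)⁆) ⟨X, hX⟩)
    rw [he]
    exact ⟨fun x hx g => (hconj X hX hXD g).le (mem_map_of_mem _ hx)⟩
  have hmcl : ∀ Q : Subgroup S, IsMinimalCentrallyLarge Q → IsMulCommutative Q := fun Q hQ =>
    le_centralizer_iff_isMulCommutative.1 (commutator_eq_bot_iff_le_centralizer.1 (le_bot_iff.1
      (hder ▸ le_iSup (fun X : {X : Subgroup ↥S // IsMinimalCentrallyLarge X} =>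
        ⁅(X : Subgroup ↥S), (X : Subgroup ↥S)⁆) ⟨Q, hQ⟩)))
  obtain ⟨R₀, hR₀⟩ := CD.exists_centrallyLarge (G := ↥S)
  obtain ⟨Q₀, -, hQ₀⟩ := CD.exists_minimalCentrallyLarge_le hR₀
  have hiff := (S3007.result (p := p) (↥S) hS Q₀ Q₀ hQ₀ hQ₀).2.2.2.2 (hmcl Q₀ hQ₀)
  have hlag : ∀ A, GNiles.IsLag S A → A.subgroupOf S ∈ maxAbelianSubgroups ↥S := by
    intro A hA
    haveI := le_centralizer_iff_isMulCommutative.1 hA.comm
    refine ⟨inferInstance, fun B hB => ?_⟩
    rw [GNilesMax.card_subgroupOf hA.le, ← card_map_of_injective (K := B) S.subtype_injective]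
    haveI := hB
    exact hA.max _ (map_subtype_le B)
      (le_centralizer_iff_isMulCommutative.2 (Subgroup.map_isMulCommutative B S.subtype))
  have hlag' : ∀ A : Subgroup S, A ∈ maxAbelianSubgroups ↥S → GNiles.IsLag S (A.map S.subtype) := by
    intro A hA
    haveI := hA.1
    refine ⟨map_subtype_le A,
      le_centralizer_iff_isMulCommutative.2 (Subgroup.map_isMulCommutative A S.subtype),
      fun B hB hBc => ?_⟩
    haveI := le_centralizer_iff_isMulCommutative.1 hBc
    rw [card_map_of_injective S.subtype_injective, ← GNilesMax.card_subgroupOf hB]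
    exact hA.2 _ (inferInstance)
  refine ⟨⟨fun A hA H hH => ?_⟩, ?_⟩
  · have h1 := CD.cdMeasure_le_max (H.subgroupOf S)
    rw [GNilesMax.cdMeasure_subgroupOf hH] at h1
    have h2 : IsCentralizerLarge (A.subgroupOf S) :=
      ((CD.centrallyLarge_iff _).1 ((hiff _).2 (hlag A hA)).1).1
    unfold IsCentralizerLarge at h2
    rw [CD.centralizer_maxAbelian (hlag A hA), GNilesMax.card_subgroupOf hA.le] at h2
    exact h1.trans h2.ge
  by_contra hall
  push Not at hall
  apply hk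
  rw [kLoc, if_pos hder]
  refine ⟨fun x hx g => ?_⟩
  have hle : ((thompsonSubgroupA ↥S).map S.subtype).map (MulAut.conj g).toMonoidHom ≤
      (thompsonSubgroupA ↥S).map S.subtype := by
    rw [map_map, map_le_iff_le_comap, thompsonSubgroupA]
    refine sSup_le fun A hA => ?_
    rw [← map_le_iff_le_comap, ← map_map]
    have hL := hlag' A hA
    have hgS : (A.map S.subtype).map (MulAut.conj g).toMonoidHom ≤ S := by
      rintro _ ⟨a, ha, rfl⟩
      exact d.pCore_le ((inferInstance : (pCore p G).Normal).conj_mem a (hall _ hL ha) g)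
    rw [← map_subgroupOf_eq_of_le hgS]
    exact map_mono (le_sSup (hlag _ (hL.map_conj hgS)))
  exact hle (mem_map_of_mem _ hx)

/-- An element of order prime to `p` moving a normal subgroup inside what its square moves it to. -/
theorem exists_move (hp2 : p ≠ 2) (d : PushingUp.Data p S M n F ψ)
    (hn : ¬ (S ⊓ centralizer (S : Set G)).Normal) (hk : ¬ ((kLoc ↥S).map S.subtype).Normal) :
    ∃ σ : G, (orderOf σ).Coprime p ∧ σ ∉ M ∧ ψ σ ≠ 1 ∧ ψ (σ * σ) = 1 ∧
      ∀ R D₀ : Subgroup G, D₀.Normal → D₀ ≤ pCore p G → σ ∈ normalizer (R : Set G) →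
        D₀ ≤ normalizer (R : Set G) → (∀ y ∈ D₀, ⁅σ * σ, y⁆ ∈ R) → ∀ e ∈ D₀, ⁅σ, e⁆ ∈ R := by
  obtain ⟨hsat, A, hA, hAD⟩ := exists_base d hn hk
  obtain ⟨ψ', hker, st⟩ := RankOnePush.exists_setup d
  have hc : GNiles.Ctx p S n ψ' := ⟨⟨M, d.sylow, d.cent, d.coatom, d.le, d.uniq, st.surj, d.card,
    d.pos⟩, st, hn⟩
  have b : GNilesMax.Base p S A n ψ' := ⟨hc, hsat, hA, hAD⟩
  obtain ⟨σ, hco, hopp, h2, hfix⟩ := b.exists_sigma_sq hp2
  have h1 : ψ' σ ≠ 1 := fun h => hopp 1 (by rw [map_one, h]) (by simp)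
  have hσM : σ ∉ M := fun hmem => d.coatom.1 (top_unique ((hc.sup_conj hopp).ge.trans (sup_le d.le (by
    rintro _ ⟨x, hx, rfl⟩
    exact M.mul_mem (M.mul_mem hmem (d.le hx)) (M.inv_mem hmem)))))
  have hker' : ∀ x : G, ψ x = 1 ↔ ψ' x = 1 := fun x => by
    rw [← MonoidHom.mem_ker, ← MonoidHom.mem_ker, hker]
  refine ⟨σ, hco.symm, hσM, fun h => h1 ((hker' σ).1 h), (hker' _).2 (by rw [map_mul, h2]),
    fun R D₀ hD₀n hD₀ hσR hD₀R hsq e he => ?_⟩
  set τ := σ * σ with hτ
  set X := GNilesMax.xPart p A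
  set I := GNilesMax.iPart p A
  have hσP : σ ∈ GNiles.opG p G := GNiles.mem_pp (mem_top σ) hco
  have hσG : σ ∈ GNiles.opG p G ⊔ A := mem_sup_left hσP
  have hτG : τ ∈ GNiles.opG p G ⊔ A := mul_mem hσG hσG
  set a := ⁅σ, e⁆ with ha
  have haX : a ∈ X := b.xo_le_xPart (by
    rw [ha, ← commutatorElement_inv]
    exact inv_mem (commutator_mem_commutator (hD₀ he) hσP))
  have haD : a ∈ D₀ := by
    rw [ha, commutatorElement_def]
    exact mul_mem (hD₀n.conj_mem e he σ) (inv_mem he)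
  set L := X ⊓ D₀ with hL
  set J := I.subgroupOf L
  haveI hJ : J.Normal := ⟨fun i hi y => mem_subgroupOf.2 (by
    rw [Subgroup.coe_mul, Subgroup.coe_mul, InvMemClass.coe_inv, b.conj_iPart y.2.1 (mem_subgroupOf.1 hi)]
    exact mem_subgroupOf.1 hi)⟩
  have hτL : ∀ y ∈ L, ⁅τ, y⁆ ∈ L := fun y hy => ⟨by
    rw [commutatorElement_def]
    exact mul_mem (b.xPart_conj hτG hy.1) (X.inv_mem hy.1), by
    rw [commutatorElement_def]
    exact mul_mem (hD₀n.conj_mem y hy.2 τ) (D₀.inv_mem hy.2)⟩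
  let f : L →* L ⧸ J :=
    { toFun := fun y => QuotientGroup.mk ⟨⁅τ, (y : G)⁆, hτL y y.2⟩
      map_one' := by
        rw [QuotientGroup.eq_one_iff]
        show ⁅τ, ((1 : L) : G)⁆ ∈ I
        simp
      map_mul' := fun y z => by
        rw [← QuotientGroup.mk_mul, QuotientGroup.eq]
        show ⁅τ, ((y * z : L) : G)⁆⁻¹ * (⁅τ, (y : G)⁆ * ⁅τ, (z : G)⁆) ∈ I
        rw [show ⁅τ, ((y * z : L) : G)⁆⁻¹ * (⁅τ, (y : G)⁆ * ⁅τ, (z : G)⁆) =
          ⁅(y : G), ⁅τ, (z : G)⁆⁻¹⁆ by simp [commutatorElement_def, mul_assoc]]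
        exact b.xx_mem y.2.1 (inv_mem (hτL z z.2).1) }
  have hkerf : f.ker ≤ J := fun y hy => mem_subgroupOf.2 (hfix y y.2.1 (mem_subgroupOf.1
    ((QuotientGroup.eq_one_iff (⟨⁅τ, (y : G)⁆, hτL y y.2⟩ : L)).1 hy)))
  have hsurj : f.range = ⊤ := by
    refine eq_top_of_card_eq _ (le_antisymm (card_le_card_group _) ?_)
    rw [← index_ker, ← index_eq_card]
    exact Nat.le_of_dvd (Nat.pos_of_ne_zero index_ne_zero_of_finite) (index_dvd_of_le hkerf)
  obtain ⟨y, hy⟩ := hsurj.ge (mem_top (QuotientGroup.mk ⟨a, haX, haD⟩ : L ⧸ J))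
  have hi : ⁅τ, (y : G)⁆⁻¹ * a ∈ I := mem_subgroupOf.1 (QuotientGroup.eq.1 hy)
  have hr : ⁅τ, (y : G)⁆ ∈ R := hsq y y.2.2
  have hcomm : ⁅σ, a⁆ ∈ R := by
    set i := ⁅τ, (y : G)⁆⁻¹ * a with hidef
    have hσi : σ * i * σ⁻¹ = i := b.opA_conj_iPart hσG hi
    rw [show a = ⁅τ, (y : G)⁆ * i by rw [hidef, mul_inv_cancel_left],
      show ⁅σ, ⁅τ, (y : G)⁆ * i⁆ = σ * ⁅τ, (y : G)⁆ * σ⁻¹ * (σ * i * σ⁻¹) * i⁻¹ * ⁅τ, (y : G)⁆⁻¹ by
        rw [commutatorElement_def]; group, hσi, mul_inv_cancel_right]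
    exact mul_mem ((mem_normalizer_iff.1 hσR _).1 hr) (inv_mem hr)
  refine mem_of_stable (d := e) hco.symm hσR (hD₀R haD)
    ((IsPGroup.iff_orderOf.1 (PSolvable.pCore_isPGroup (G := G) (p := p))) ⟨a, hD₀ haD⟩ |>.imp
      fun k hk' => by rwa [orderOf_mk] at hk') (by rw [ha, commutatorElement_def]; group) ?_
  exact hcomm

end Cfsg.Agent.Lib.FocalChar
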