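import Cfsg.Agent.Lib.FocalChar.MaxEl
import Cfsg.Agent.Lib.FocalChar.KLoc
import Cfsg.Agent.Lib.Coprime.Quotient

/-!
# The subgroup `kLoc` of the centraliser of `zMax`
-/

set_option autoImplicit false
set_option linter.unusedSectionVars false

namespace Cfsg.Agent.Lib.FocalChar

open Subgroup Cfsg
open Cfsg.Agent.Lib

variable {G H : Type*} [Group G] [Group H] [Finite G] [Finite H] {p : ℕ} [Fact p.Prime]

/-- `kLoc` of `bMax`. -/
noncomputable def kSub (p : ℕ) (S : Subgroup G) : Subgroup G :=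
  (kLoc ↥(bMax p S)).map (bMax p S).subtype

theorem kSub_le (S : Subgroup G) : kSub p S ≤ bMax p S := map_subtype_le _

theorem kSub_le_S (S : Subgroup G) : kSub p S ≤ S := (kSub_le S).trans bMax_le_S

theorem map_maxEl {f : G →* H} (hf : Function.Injective f) {S A : Subgroup G} (hA : A ∈ maxEl p S) :
    A.map f ∈ maxEl p (S.map f) := by
  refine ⟨map_mono hA.1, el_map f hA.2.1, fun X hX hX' => ?_⟩
  have e : (X.comap f).map f = X :=
    map_comap_eq_self (hX.trans (map_le_range f S))
  rw [← e, card_map_of_injective hf, card_map_of_injective hf]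
  refine hA.2.2 _ (fun x hx => ?_) ?_
  · obtain ⟨y, hy, he⟩ := hX (mem_comap.1 hx)
    exact hf he ▸ hy
  · refine ⟨⟨⟨fun a b => Subtype.ext (hf ?_)⟩⟩, fun a ha => hf ?_⟩
    · rw [Subgroup.coe_mul, Subgroup.coe_mul, map_mul, map_mul]
      exact el_comm hX' a.2 b.2
    · rw [map_pow, map_one]
      exact hX'.2 _ ha

theorem zMax_map {f : G →* H} (hf : Function.Injective f) (S : Subgroup G) :
    zMax p (S.map f) = (zMax p S).map f := by
  refine le_antisymm ?_ ?_
  · rintro y hy
    obtain ⟨x, hx, rfl⟩ := hy.1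
    refine ⟨x, ⟨hx, mem_sInf.2 fun A hA => ?_⟩, rfl⟩
    obtain ⟨a, ha, he⟩ := mem_sInf.1 hy.2 _ (map_maxEl hf hA)
    exact hf he ▸ ha
  · rintro _ ⟨x, hx, rfl⟩
    refine ⟨mem_map_of_mem f hx.1, mem_sInf.2 fun A hA => ?_⟩
    have e : (A.comap f).map f = A := map_comap_eq_self (hA.1.trans (map_le_range f S))
    have hA' : A.comap f ∈ maxEl p S := by
      refine ⟨fun z hz => ?_, ⟨⟨⟨fun a b => Subtype.ext (hf ?_)⟩⟩, fun a ha => hf ?_⟩,
        fun X hX hX' => ?_⟩
      · obtain ⟨y, hy, he⟩ := hA.1 (mem_comap.1 hz)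
        exact hf he ▸ hy
      · rw [Subgroup.coe_mul, Subgroup.coe_mul, map_mul, map_mul]
        exact el_comm hA.2.1 a.2 b.2
      · rw [map_pow, map_one]
        exact hA.2.1.2 _ ha
      · rw [← card_map_of_injective hf (K := X), ← card_map_of_injective hf (K := A.comap f), e]
        exact hA.2.2 _ (map_mono hX) (el_map f hX')
    exact mem_comap.1 (mem_sInf.1 hx.2 _ hA')

theorem bMax_map {f : G →* H} (hf : Function.Injective f) (S : Subgroup G) :
    bMax p (S.map f) = (bMax p S).map f := by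
  refine le_antisymm ?_ ?_
  · intro y hy
    obtain ⟨x, hx, rfl⟩ := hy.1
    refine ⟨x, ⟨hx, mem_centralizer_iff.2 fun z hz => hf ?_⟩, rfl⟩
    rw [map_mul, map_mul]
    exact mem_centralizer_iff.1 hy.2 _ ((zMax_map hf S).ge (mem_map_of_mem f hz))
  · rintro _ ⟨x, hx, rfl⟩
    refine ⟨mem_map_of_mem f hx.1, mem_centralizer_iff.2 fun w hw => ?_⟩
    obtain ⟨z, hz, rfl⟩ := (zMax_map hf S).le hw
    rw [← map_mul, ← map_mul, mem_centralizer_iff.1 hx.2 z hz]

theorem kSub_map {f : G →* H} (hf : Function.Injective f) (S : Subgroup G) :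
    kSub p (S.map f) = (kSub p S).map f := by
  have e := bMax_map (p := p) hf S
  rw [kSub, kSub, ← kLoc_map ((equivMapOfInjective (bMax p S) f hf).trans (MulEquiv.subgroupCongr e.symm)),
    map_map, map_map]
  congr 1

theorem kSub_top_eq (S : Subgroup G) : (kSub p (⊤ : Subgroup ↥S)).map S.subtype = kSub p S := by
  rw [← kSub_map S.subtype_injective, ← MonoidHom.range_eq_map, Subgroup.range_subtype]

theorem kSub_subgroupOf_characteristic (S : Subgroup G) :
    ((kSub p S).subgroupOf S).Characteristic := by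
  rw [← kSub_top_eq S, subgroupOf, comap_map_eq_self_of_injective S.subtype_injective]
  refine characteristic_iff_map_eq.2 fun φ => ?_
  rw [← kSub_map φ.injective, map_top_of_surjective _ φ.surjective]

theorem le_normalizer_kSub (S : Subgroup G) :
    normalizer (bMax p S : Set G) ≤ normalizer (kSub p S : Set G) := by
  have := kLoc_characteristic (H := ↥(bMax p S))
  exact Coprime.normalizer_le_normalizer_map_of_characteristic _

theorem kSub_normal {S : Subgroup G} (h : (bMax p S).Normal) : (kSub p S).Normal :=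
  normalizer_eq_top_iff.1 (top_unique ((normalizer_eq_top_iff.2 h).ge.trans (le_normalizer_kSub S)))

theorem kSub_ne_bot {S : Subgroup G} (hS : IsPGroup p S) (hne : S ≠ ⊥) : kSub p S ≠ ⊥ := by
  obtain ⟨A, hA⟩ := exists_maxEl (p := p) S
  have hAne : A ≠ ⊥ := fun h0 => by
    obtain ⟨k, hk0, hk⟩ := hS.nontrivial_iff_card.1 ((nontrivial_iff_ne_bot S).2 hne)
    obtain ⟨x, hx⟩ := exists_prime_orderOf_dvd_card' (G := S) p (hk ▸ dvd_pow_self p (by omega))
    have hxp : (x : G) ^ p = 1 := by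
      rw [← SubgroupClass.coe_pow, ← hx, pow_orderOf_eq_one]; rfl
    have h1 := hA.2.2 (zpowers (x : G)) (zpowers_le.2 x.2) (el_zpowers hxp)
    rw [h0, card_bot, Nat.card_zpowers, orderOf_coe, hx] at h1
    exact absurd h1 (by have := (Fact.out : p.Prime).two_le; omega)
  have : Nontrivial ↥(bMax p S) := (nontrivial_iff_ne_bot _).2 fun h0 =>
    hAne (le_bot_iff.1 (h0 ▸ maxEl_le_bMax hA))
  rw [kSub, Ne, Subgroup.map_eq_bot_iff_of_injective _ (bMax p S).subtype_injective]
  exact kLoc_ne_bot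

end Cfsg.Agent.Lib.FocalChar
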