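import Cfsg.Agent.Lib.Functor.TransferCriteria
import Cfsg.Agent.Lib.FocalChar.Core

/-!
# The focal subgroup from the centre and one characteristic subgroup, odd `p`
-/

set_option autoImplicit false
set_option linter.unusedSectionVars false

namespace Cfsg.Agent.Lib.FocalChar

open Subgroup Cfsg
open Cfsg.Agent.Lib
open scoped commutatorElement

universe u

variable {p : ℕ} [Fact p.Prime]

/-- The centre, as a functor. -/
def zFun (Q : Type u) [Group Q] : Subgroup Q := center Q

/-- `kSub`, as a functor. -/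
noncomputable def kFun (p : ℕ) (Q : Type u) [Group Q] : Subgroup Q := kSub p (⊤ : Subgroup Q)

theorem zFun_isCharPFunctor : IsCharPFunctor.{u} p zFun.{u} := by
  refine ⟨fun Q _ _ hQ hne => ?_, fun Q R _ _ _ _ φ => ?_⟩
  · have : Nontrivial (center Q) := hQ.center_nontrivial
    exact (nontrivial_iff_ne_bot _).1 this
  · refine le_antisymm ?_ fun r hr => ⟨φ.symm r, ?_, by simp⟩
    · rintro _ ⟨z, hz, rfl⟩
      refine mem_center_iff.2 fun g => ?_
      obtain ⟨q, rfl⟩ := φ.surjective g
      show φ q * φ z = φ z * φ q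
      rw [← map_mul, ← map_mul, mem_center_iff.1 hz q]
    · refine mem_center_iff.2 fun q => φ.injective ?_
      rw [map_mul, map_mul, φ.apply_symm_apply, mem_center_iff.1 hr (φ q)]

theorem kFun_isCharPFunctor : IsCharPFunctor.{u} p (kFun.{u} p) := by
  refine ⟨fun Q _ _ hQ hne => ?_, fun Q R _ _ _ _ φ => ?_⟩
  · exact kSub_ne_bot (hQ.to_subgroup ⊤) (fun h => by
      obtain ⟨x, hx⟩ := exists_ne (1 : Q)
      exact hx (mem_bot.1 (h ▸ mem_top x)))
  · haveI : Finite R := Finite.of_equiv Q φ.toEquiv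
    show (kSub p (⊤ : Subgroup Q)).map φ.toMonoidHom = kSub p (⊤ : Subgroup R)
    rw [← kSub_map (f := φ.toMonoidHom) φ.injective, Subgroup.map_top_of_surjective _ φ.surjective]

theorem inducedFunctor_zFun {G : Type u} [Group G] (T : Subgroup G) :
    inducedFunctor zFun.{u} T = T ⊓ centralizer (T : Set G) := by
  refine le_antisymm ?_ ?_
  · rintro _ ⟨z, hz, rfl⟩
    exact ⟨z.2, mem_centralizer_iff.2 fun t ht => congrArg Subtype.val (mem_center_iff.1 hz ⟨t, ht⟩)⟩
  · rintro z ⟨hz, hc⟩
    exact ⟨⟨z, hz⟩, mem_center_iff.2 fun t => Subtype.ext (mem_centralizer_iff.1 hc t t.2), rfl⟩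

theorem inducedFunctor_kFun {G : Type u} [Group G] [Finite G] (T : Subgroup G) :
    inducedFunctor (kFun.{u} p) T = kSub p T := kSub_top_eq T

theorem not_minimalFailure (hp : p ≠ 2) {𝓦 : Set (∀ (Q : Type u) [Group Q], Subgroup Q)}
    (hz : zFun.{u} ∈ 𝓦) (hk : (kFun.{u} p) ∈ 𝓦) (Y : Type u) [Group Y] [Finite Y] :
    ¬ Functor.IsMinimalFailure p 𝓦 Y := by
  intro hm
  obtain ⟨P⟩ : Nonempty (Sylow p Y) := inferInstance
  have hS := Functor.isSylowIn_top_of_sylow P
  set T := (P : Subgroup Y) with hT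
  obtain ⟨hMne, hSM, hmax⟩ := hm.structure_thm hS
  set M := normalizer ((Functor.transferCore p 𝓦 T : Subgroup Y) : Set Y) with hMdef
  haveI hPn : (pCore p Y).Normal :=
    @Subgroup.normal_of_characteristic _ _ _ PSolvable.pCore_characteristic
  have hPS : pCore p Y ≤ T := hS.le_of_normal PSolvable.pCore_isPGroup
  have hpre : Pre p T M := by
    refine ⟨⟨P, rfl⟩, hm.constrained, hMne, hSM, hmax, fun hn => ?_, fun hn => ?_⟩
    · refine hm.not_normalizer_top hS hz ?_
      rw [inducedFunctor_zFun]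
      exact normalizer_eq_top_iff.2 hn
    · refine hm.not_normalizer_top hS hk ?_
      rw [inducedFunctor_kFun]
      exact normalizer_eq_top_iff.2 hn
  have hM : ∀ z ∈ pCore p Y, ∀ h ∈ M,
      z⁻¹ * (h * z * h⁻¹) ∈ Functor.transferCore p 𝓦 T :=
    (hm.le_normalizer_core hS hMne hSM).1
  obtain ⟨x, hxM, hx⟩ := core hp hpre (Functor.transferCore p 𝓦 T) hM
  let A : Subgroup Y :=
    { carrier := {g | ∀ z ∈ pCore p Y, z⁻¹ * (g * z * g⁻¹) ∈ Functor.transferCore p 𝓦 T}
      one_mem' := fun z _ => by simp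
      mul_mem' := fun {a b} ha hb z hz => by
        have h1 := mul_mem (hb z hz) (ha _ (hPn.conj_mem z hz b))
        simpa [mul_assoc] using h1
      inv_mem' := fun {a} ha z hz => by
        have h1 := inv_mem (ha _ (hPn.conj_mem z hz a⁻¹))
        simpa [mul_assoc] using h1 }
  have hA : A = ⊤ := by
    by_contra hne
    exact hxM (hmax A (fun s hs z hz => hM z hz s (hSM hs)) hne hx)
  refine hm.not_pCore_inf_le hS (Functor.inf_commutator_le_of_central hS hPS
    (Functor.commutator_le_transferSub hm.functor hm.nonempty hS.isPGroup) (Functor.transferSub_le _ _)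
    fun z hz g => ?_)
  exact ((hA.symm ▸ mem_top g : g ∈ A) z hz).1

/-- `Z(S)` and `kSub` give the focal subgroup. -/
theorem focal_pair (hp : p ≠ 2) {G : Type u} [Group G] [Finite G] (S : Sylow p G) :
    (S : Subgroup G) ⊓ commutator G ≤
      ((S : Subgroup G) ⊓ ⁅normalizer (((S : Subgroup G) ⊓ centralizer ((S : Subgroup G) : Set G) : Subgroup G) : Set G),
          normalizer (((S : Subgroup G) ⊓ centralizer ((S : Subgroup G) : Set G) : Subgroup G) : Set G)⁆) ⊔
      ((S : Subgroup G) ⊓ ⁅normalizer (kSub p (S : Subgroup G) : Set G),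
          normalizer (kSub p (S : Subgroup G) : Set G)⁆) := by
  set 𝓦 : Set (∀ (Q : Type u) [Group Q], Subgroup Q) :=
    {zFun.{u}, (kFun.{u} p)} with h𝓦
  have hV : ∀ V ∈ 𝓦, IsCharPFunctor.{u} p V := by
    rintro V (rfl | rfl)
    · exact zFun_isCharPFunctor
    · exact kFun_isCharPFunctor
  have hfam := Functor.familyControlsTransfer_of_no_failure (p := p) (G := G)
    (𝓦 := 𝓦) hV ⟨_, Or.inl rfl⟩ fun Y _ _ _ => not_minimalFailure hp (Or.inl rfl) (Or.inr rfl) Y
  rw [_root_.commutator_def, Functor.transfer_eq_of_familyControls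
    (Functor.inducedFamily_isConjugacyFunctor (G := G) hV)
    (Functor.isSylowIn_top_of_sylow S) hfam]
  refine iSup₂_le ?_
  rintro _ ⟨W, hW, rfl⟩
  rcases hW with rfl | rfl
  · refine le_sup_of_le_left ?_
    simp only [top_inf_eq, inducedFunctor_zFun]
    exact le_rfl
  · refine le_sup_of_le_right ?_
    simp only [top_inf_eq, inducedFunctor_kFun]
    exact le_rfl

theorem focal_eq (hp : p ≠ 2) {G : Type u} [Group G] [Finite G] (S : Sylow p G)
    (hS : (S : Subgroup G) ≠ ⊥) :
    (S : Subgroup G) ⊓ commutator G ≤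
      ⨆ K : {K : Subgroup ↥(S : Subgroup G) // K ≠ ⊥ ∧ K.Characteristic}, (S : Subgroup G) ⊓
        ⁅normalizer ((((K : Subgroup ↥(S : Subgroup G))).map (S : Subgroup G).subtype : Subgroup G) : Set G),
          normalizer ((((K : Subgroup ↥(S : Subgroup G))).map (S : Subgroup G).subtype : Subgroup G) : Set G)⁆ := by
  refine (focal_pair hp S).trans ?_
  have hne : Nontrivial ↥(S : Subgroup G) := (nontrivial_iff_ne_bot _).2 hS
  refine sup_le ?_ ?_
  · refine le_iSup_of_le ⟨center ↥(S : Subgroup G), ?_, inferInstance⟩ ?_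
    · have : Nontrivial (center ↥(S : Subgroup G)) := S.isPGroup'.center_nontrivial
      exact (nontrivial_iff_ne_bot _).1 this
    · exact le_of_eq (by rw [← inducedFunctor_zFun]; rfl)
  · refine le_iSup_of_le ⟨kFun p ↥(S : Subgroup G), ?_, ?_⟩ ?_
    · exact kFun_isCharPFunctor.1 _ S.isPGroup' hne
    · exact characteristic_iff_map_eq.2 fun φ => kFun_isCharPFunctor.2 _ _ S.isPGroup' φ
    · exact le_of_eq (by rw [← inducedFunctor_kFun (p := p)]; rfl)

end Cfsg.Agent.Lib.FocalChar
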