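import Mathlib
import Cfsg.Prelude.Def_Transfer
import Cfsg.Agent.Lib.PushingUp.Replace

/-!
# The intersection of the elementary abelian subgroups of largest order
-/

set_option autoImplicit false
set_option linter.unusedSectionVars false

namespace Cfsg.Agent.Lib.FocalChar

open Subgroup

variable {G : Type*} [Group G] {p : ℕ}

/-- The elementary abelian subgroups of `S` of largest order. -/
def maxEl (p : ℕ) (S : Subgroup G) : Set (Subgroup G) :=
  {A | A ≤ S ∧ Cfsg.IsElementaryAbelian p A ∧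
    ∀ X ≤ S, Cfsg.IsElementaryAbelian p X → Nat.card X ≤ Nat.card A}

/-- The intersection of the elements of `maxEl`. -/
def zMax (p : ℕ) (S : Subgroup G) : Subgroup G := S ⊓ sInf (maxEl p S)

/-- The centralizer in `S` of `zMax`. -/
def bMax (p : ℕ) (S : Subgroup G) : Subgroup G := S ⊓ centralizer (zMax p S : Set G)

theorem el_comm {A : Subgroup G} (hA : Cfsg.IsElementaryAbelian p A) {a b : G} (ha : a ∈ A)
    (hb : b ∈ A) : a * b = b * a :=
  congrArg Subtype.val (hA.1.is_comm.comm (⟨a, ha⟩ : A) ⟨b, hb⟩)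

theorem el_le_centralizer {A : Subgroup G} (hA : Cfsg.IsElementaryAbelian p A) :
    A ≤ centralizer (A : Set G) := fun _ ha => mem_centralizer_iff.2 fun _ hb => el_comm hA hb ha

theorem el_mono {A B : Subgroup G} (hA : Cfsg.IsElementaryAbelian p A) (h : B ≤ A) :
    Cfsg.IsElementaryAbelian p B :=
  ⟨⟨⟨fun a b => Subtype.ext (el_comm hA (h a.2) (h b.2))⟩⟩, fun b hb => hA.2 b (h hb)⟩

theorem el_map {H : Type*} [Group H] (f : G →* H) {A : Subgroup G}
    (hA : Cfsg.IsElementaryAbelian p A) : Cfsg.IsElementaryAbelian p (A.map f) := by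
  refine ⟨⟨⟨?_⟩⟩, ?_⟩
  · rintro ⟨_, a, ha, rfl⟩ ⟨_, b, hb, rfl⟩
    refine Subtype.ext ?_
    show f a * f b = f b * f a
    rw [← map_mul, el_comm hA ha hb, map_mul]
  · rintro _ ⟨a, ha, rfl⟩
    rw [← map_pow, hA.2 a ha, map_one]

theorem el_sup {A B : Subgroup G} (hA : Cfsg.IsElementaryAbelian p A)
    (hB : Cfsg.IsElementaryAbelian p B) (h : A ≤ centralizer (B : Set G)) :
    Cfsg.IsElementaryAbelian p (A ⊔ B) := by
  have hAB : ∀ a ∈ A, ∀ b ∈ B, a * b = b * a := fun a ha b hb =>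
    (mem_centralizer_iff.1 (h ha) b hb).symm
  have hn : A ≤ normalizer (B : Set G) := h.trans (centralizer_le_normalizer _)
  have hmem : ∀ x ∈ A ⊔ B, ∃ a ∈ A, ∃ b ∈ B, a * b = x := fun x hx => by
    rw [← SetLike.mem_coe, coe_mul_of_left_le_normalizer_right A B hn] at hx
    exact Set.mem_mul.1 hx
  refine ⟨⟨⟨fun x y => Subtype.ext ?_⟩⟩, fun x hx => ?_⟩
  · obtain ⟨a, ha, b, hb, hab⟩ := hmem x x.2
    obtain ⟨a', ha', b', hb', hab'⟩ := hmem y y.2
    show (x : G) * y = y * x
    rw [← hab, ← hab']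
    calc a * b * (a' * b') = a * (b * a') * b' := by group
      _ = (a * a') * (b * b') := by rw [← hAB a' ha' b hb]; group
      _ = (a' * a) * (b' * b) := by rw [el_comm hA ha ha', el_comm hB hb hb']
      _ = a' * (a * b') * b := by group
      _ = a' * b' * (a * b) := by rw [hAB a ha b' hb']; group
  · obtain ⟨a, ha, b, hb, rfl⟩ := hmem x hx
    rw [(show Commute a b from hAB a ha b hb).mul_pow, hA.2 a ha, hB.2 b hb, one_mul]

theorem el_zpowers {x : G} (hx : x ^ p = 1) : Cfsg.IsElementaryAbelian p (zpowers x) := by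
  refine ⟨⟨⟨fun a b => ?_⟩⟩, fun a ha => ?_⟩
  · obtain ⟨_, i, rfl⟩ := a
    obtain ⟨_, k, rfl⟩ := b
    exact Subtype.ext (show x ^ i * x ^ k = x ^ k * x ^ i by rw [← zpow_add, ← zpow_add, add_comm])
  · obtain ⟨i, rfl⟩ := mem_zpowers_iff.1 ha
    rw [← zpow_natCast (x ^ i), ← zpow_mul, mul_comm, zpow_mul, zpow_natCast, hx, one_zpow]

variable [Finite G] {S : Subgroup G}

theorem exists_maxEl (S : Subgroup G) : (maxEl p S).Nonempty := by
  obtain ⟨A, hA, hmax⟩ := Set.Finite.exists_maximalFor (fun X : Subgroup G => Nat.card X)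
    {X : Subgroup G | X ≤ S ∧ Cfsg.IsElementaryAbelian p X} (Set.toFinite _)
    ⟨⊥, bot_le, ⟨⟨fun a b => Subtype.ext (by
      rw [Subgroup.coe_mul, Subgroup.coe_mul, mem_bot.1 a.2, mem_bot.1 b.2])⟩⟩,
      fun a ha => by rw [mem_bot.1 ha, one_pow]⟩
  exact ⟨A, hA.1, hA.2, fun X hX hX' => (le_total (Nat.card X) (Nat.card A)).elim id
    fun h => hmax ⟨hX, hX'⟩ h⟩

/-- Something elementary commuting with a largest elementary subgroup lies inside it. -/
theorem le_of_maxEl {A X : Subgroup G} (hA : A ∈ maxEl p S) (hX : Cfsg.IsElementaryAbelian p X)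
    (hXS : X ≤ S) (h : X ≤ centralizer (A : Set G)) : X ≤ A := by
  have h1 := hA.2.2 (X ⊔ A) (sup_le hXS hA.1) (el_sup hX hA.2.1 h)
  have h2 : A = X ⊔ A := Subgroup.eq_of_le_of_card_ge le_sup_right h1
  exact h2 ▸ le_sup_left

theorem zMax_le {A : Subgroup G} (hA : A ∈ maxEl p S) : zMax p S ≤ A := inf_le_right.trans (sInf_le hA)

theorem zMax_le_S : zMax p S ≤ S := inf_le_left

theorem bMax_le_S : bMax p S ≤ S := inf_le_left

theorem zMax_el : Cfsg.IsElementaryAbelian p (zMax p S) := by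
  obtain ⟨A, hA⟩ := exists_maxEl (p := p) S
  exact el_mono hA.2.1 (zMax_le hA)

theorem mem_zMax {x : G} (hxS : x ∈ S) (hxp : x ^ p = 1)
    (h : ∀ A ∈ maxEl p S, x ∈ centralizer (A : Set G)) : x ∈ zMax p S :=
  ⟨hxS, mem_sInf.2 fun A hA => le_of_maxEl hA (el_zpowers hxp) (zpowers_le.2 hxS)
    (zpowers_le.2 (h A hA)) (mem_zpowers x)⟩

theorem maxEl_le_bMax {A : Subgroup G} (hA : A ∈ maxEl p S) : A ≤ bMax p S :=
  le_inf hA.1 fun a ha => mem_centralizer_iff.2 fun _ hz => el_comm hA.2.1 (zMax_le hA hz) ha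

/-- `maxEl` is transported by injective maps fixing `S`. -/
theorem map_zMax {f : ↥S →* G} (hf : Function.Injective f) (hr : f.range = S) :
    ((zMax p S).subgroupOf S).map f = zMax p S := by
  refine Subgroup.eq_of_le_of_card_ge ?_ ?_
  · rintro _ ⟨z, hz, rfl⟩
    have hzm : (z : G) ∈ zMax p S := mem_subgroupOf.1 hz
    refine mem_zMax ((SetLike.ext_iff.1 hr (f z)).1 ⟨z, rfl⟩) ?_ fun A hA => mem_centralizer_iff.2 fun a ha => ?_
    · rw [← map_pow, show z ^ p = 1 from Subtype.ext (by simpa using zMax_el.2 _ hzm), map_one]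
    obtain ⟨a', rfl⟩ : a ∈ f.range := hr.symm ▸ hA.1 ha
    have hA' : (A.comap f).map S.subtype ∈ maxEl p S := by
      have hc : Nat.card ↥((A.comap f).map S.subtype) = Nat.card A := by
        rw [card_map_of_injective S.subtype_injective, ← card_map_of_injective hf (K := A.comap f),
          map_comap_eq, hr, inf_eq_right.2 hA.1]
      refine ⟨map_subtype_le _, el_map _ ?_, fun X hX hX' => (hA.2.2 X hX hX').trans_eq hc.symm⟩
      refine ⟨⟨⟨fun x y => Subtype.ext (hf ?_)⟩⟩, fun x hx => hf ?_⟩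
      · rw [Subgroup.coe_mul, Subgroup.coe_mul, map_mul, map_mul]
        exact el_comm hA.2.1 x.2 y.2
      · rw [map_pow, map_one]
        exact hA.2.1.2 _ hx
    have h1 : (a' : G) * z = z * a' := el_comm hA'.2.1 ⟨a', ha, rfl⟩ (zMax_le hA' hzm)
    rw [← map_mul, ← map_mul, show a' * z = z * a' from Subtype.ext h1]
  · rw [card_map_of_injective hf, Nat.card_congr (subgroupOfEquivOfLe (zMax_le_S (p := p) (S := S))).toEquiv]

theorem zMax_char : ((zMax p S).subgroupOf S).Characteristic := by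
  refine characteristic_iff_map_eq.2 fun φ => ?_
  refine map_injective S.subtype_injective ?_
  rw [map_map, map_subgroupOf_eq_of_le (zMax_le_S (p := p) (S := S))]
  refine map_zMax (S.subtype_injective.comp φ.injective) ?_
  rw [MonoidHom.range_comp, MonoidHom.range_eq_top.2 φ.surjective, ← MonoidHom.range_eq_map,
    Subgroup.range_subtype]

theorem bMax_char : ((bMax p S).subgroupOf S).Characteristic := by
  have := zMax_char (p := p) (S := S)
  have e : (bMax p S).subgroupOf S = centralizer (((zMax p S).subgroupOf S : Subgroup ↥S) : Set ↥S) := by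
    ext x
    simp only [mem_subgroupOf, bMax, mem_inf, mem_centralizer_iff]
    constructor
    · exact fun h z hz => Subtype.ext (h.2 (z : G) hz)
    · exact fun h => ⟨x.2, fun z hz => congrArg Subtype.val
        (h ⟨z, (zMax_le_S (p := p) (S := S)) hz⟩ hz)⟩
  rw [e]
  infer_instance

end Cfsg.Agent.Lib.FocalChar
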