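import Mathlib
import Cfsg.Prelude.Def_Transfer
import Cfsg.Agent.Lib.PSolvable.Core
import Cfsg.Agent.Lib.FusionMod.Basic
import Cfsg.Agent.Lib.FocalChar.MaxEl
import Cfsg.Agent.Lib.FocalChar.Stable
import Cfsg.Agent.Lib.Transfer.PResidual
import Cfsg.Agent.Lib.FocalChar.KSub

/-!
# A constrained group in which neither the centre of the Sylow subgroup nor `kSub` is normal: the
# module
-/

set_option autoImplicit false
set_option linter.unusedSectionVars false

namespace Cfsg.Agent.Lib.FocalChar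

open Subgroup Cfsg
open Cfsg.Agent.Lib

variable {G : Type*} [Group G] [Finite G] {p : ℕ} [Fact p.Prime]

/-- The hypotheses. -/
structure Pre (p : ℕ) (S M : Subgroup G) : Prop where
  sylow : ∃ P : Sylow p G, (P : Subgroup G) = S
  cent : centralizer (pCore p G : Set G) ≤ pCore p G
  ne : M ≠ ⊤
  le : S ≤ M
  max : ∀ L : Subgroup G, S ≤ L → L ≠ ⊤ → L ≤ M
  ncen : ¬ (S ⊓ centralizer (S : Set G)).Normal
  nk : ¬ (kSub p S).Normal

namespace Pre

variable {S M : Subgroup G} (d : Pre p S M)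

include d

theorem pgroup : IsPGroup p S := by obtain ⟨P, hP⟩ := d.sylow; exact hP ▸ P.2

theorem core_le : pCore p G ≤ S := by
  obtain ⟨P, hP⟩ := d.sylow
  exact hP ▸ PSolvable.pCore_le_sylow P

theorem le_core {X : Subgroup G} (hX : X.Normal) (hXS : X ≤ S) : X ≤ pCore p G :=
  @PSolvable.le_pCore G _ p X hX (d.pgroup.to_le hXS)

theorem le_M {L : Subgroup G} [L.Normal] (h : L ⊔ S ≠ ⊤) : L ≤ M :=
  le_sup_left.trans (d.max _ le_sup_right h)

theorem inf_le_core {L : Subgroup G} [L.Normal] (h : L ⊔ S ≠ ⊤) : L ⊓ S ≤ pCore p G := by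
  obtain ⟨P, hP⟩ := d.sylow
  refine d.le_core (normalizer_eq_top_iff.1 ?_) inf_le_right
  by_contra hne
  refine d.ne (eq_top_iff.2 ?_)
  rw [← FusionMod.frattini_inf P L, hP, inf_comm]
  exact sup_le (d.max _ ((le_inf le_normalizer_of_normal le_normalizer).trans
    (inf_normalizer_le_normalizer_inf (H := L) (K := S))) hne) (d.le_M h)

theorem sup_eq_top {L : Subgroup G} [L.Normal] (h : ¬ L ⊓ S ≤ pCore p G) : L ⊔ S = ⊤ := by
  by_contra hne
  exact h (d.inf_le_core hne)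

theorem coprime_mem {L : Subgroup G} [L.Normal] (h : L ⊔ S = ⊤) {x : G}
    (hx : (orderOf x).Coprime p) : x ∈ L := by
  obtain ⟨s, hs, hse⟩ : ∃ s ∈ S, QuotientGroup.mk' L s = QuotientGroup.mk' L x := by
    obtain ⟨l, hl, s, hs, rfl⟩ := mem_sup_of_normal_left.1 (h.symm ▸ mem_top x : x ∈ L ⊔ S)
    refine ⟨s, hs, ?_⟩
    rw [map_mul, show QuotientGroup.mk' L l = 1 from (QuotientGroup.eq_one_iff l).2 hl, one_mul]
  obtain ⟨k, hk⟩ := d.pgroup ⟨s, hs⟩
  refine (QuotientGroup.eq_one_iff x).1 ?_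
  have h1 : QuotientGroup.mk' L x ^ p ^ k = 1 := by
    rw [← hse, ← map_pow, show s ^ p ^ k = 1 from congrArg Subtype.val hk, map_one]
  exact orderOf_eq_one_iff.1 (Nat.eq_one_of_dvd_coprimes (hx.pow_right k)
    (orderOf_map_dvd (QuotientGroup.mk' L) x) (orderOf_dvd_of_pow_eq_one h1))

end Pre

/-- The module. -/
structure Module1 (p : ℕ) (S M V : Subgroup G) : Prop where
  normalV : V.Normal
  elV : IsElementaryAbelian p V
  leQ : V ≤ pCore p G
  centV : pCore p G ≤ centralizer (V : Set G)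
  inf : centralizer (V : Set G) ⊓ S ≤ pCore p G
  leM : centralizer (V : Set G) ≤ M
  fixP : ∀ v ∈ V, (∀ A ∈ maxEl p S, v ∈ centralizer (A : Set G)) → v ∈ zMax p S
  inter : ∀ A ∈ maxEl p S, A ⊓ V = V ⊓ centralizer (A : Set G)
  star : ∀ A ∈ maxEl p S, IsElementaryAbelian p ((A ⊓ centralizer (V : Set G)) ⊔ V) ∧
    Nat.card ↥((A ⊓ centralizer (V : Set G)) ⊔ V) * Nat.card ↥(A ⊓ V) =
      Nat.card ↥(A ⊓ centralizer (V : Set G)) * Nat.card V
  of_le : ∀ A ∈ maxEl p S, A ≤ pCore p G → V ≤ A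
  offender : ∀ A ∈ maxEl p S, Nat.card ↥(A ⊓ centralizer (V : Set G)) * Nat.card V ≤
    Nat.card A * Nat.card ↥(V ⊓ centralizer (A : Set G))
  exists_not_le : ∃ A ∈ maxEl p S, ¬ A ≤ pCore p G

/-- The enlarged module and the kernel of the action on the quotient. -/
structure Module2 (p : ℕ) (S V W Kc : Subgroup G) : Prop where
  W_eq : W = V ⊔ zMax p S
  normalW : W.Normal
  elW : IsElementaryAbelian p W
  W_le : W ≤ pCore p G
  normalK : Kc.Normal
  top : Kc ⊔ S = ⊤
  act : ∀ g ∈ Kc, ∀ w ∈ W, g * w * g⁻¹ * w⁻¹ ∈ V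

theorem Pre.exists_modules {S M : Subgroup G} (d : Pre p S M) :
    ∃ V : Subgroup G, Module1 p S M V := by
  set Q := pCore p G with hQ
  have : Q.Normal := @Subgroup.normal_of_characteristic _ _ _ PSolvable.pCore_characteristic
  have hQS : Q ≤ S := d.core_le
  -- the centre
  set Z0 : Subgroup G := S ⊓ centralizer (S : Set G) with hZ0
  -- the module
  set W0 : Subgroup G := normalClosure (Z0 : Set G) with hW0
  have hW0n : W0.Normal := normalClosure_normal
  have hZQ : Z0 ≤ Q := fun z hz => d.cent (mem_centralizer_iff.2 fun q hq =>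
    mem_centralizer_iff.1 hz.2 q (hQS hq))
  have : (Q ⊓ centralizer (Q : Set G)).Normal := inferInstance
  have hWc : W0 ≤ Q ⊓ centralizer (Q : Set G) := normalClosure_le_normal fun z hz =>
    ⟨hZQ hz, mem_centralizer_iff.2 fun q hq => mem_centralizer_iff.1 hz.2 q (hQS hq)⟩
  have hW0c : ∀ a ∈ W0, ∀ b ∈ W0, a * b = b * a := fun a ha b hb =>
    (mem_centralizer_iff.1 (hWc ha).2 b (hWc hb).1).symm
  let V : Subgroup G :=
    { carrier := {x | x ∈ W0 ∧ x ^ p = 1}
      one_mem' := ⟨one_mem _, one_pow _⟩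
      mul_mem' := fun {a b} ha hb => ⟨mul_mem ha.1 hb.1, by
        rw [(show Commute a b from hW0c a ha.1 b hb.1).mul_pow, ha.2, hb.2, one_mul]⟩
      inv_mem' := fun {a} ha => ⟨inv_mem ha.1, by rw [inv_pow, ha.2, inv_one]⟩ }
  have hVn : V.Normal := ⟨fun x hx g => ⟨hW0n.conj_mem x hx.1 g, by rw [conj_pow, hx.2]; group⟩⟩
  have hVc : V ≤ Q ⊓ centralizer (Q : Set G) := fun x hx => hWc hx.1
  have hVQ : V ≤ Q := hVc.trans inf_le_left
  have hVp : ∀ v ∈ V, v ^ p = 1 := fun v hv => hv.2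
  have hVel : IsElementaryAbelian p V := ⟨⟨⟨fun a b => Subtype.ext (hW0c a a.2.1 b b.2.1)⟩⟩, hVp⟩
  have hQV : Q ≤ centralizer (V : Set G) := fun q hq => mem_centralizer_iff.2 fun v hv =>
    (mem_centralizer_iff.1 (hVc hv).2 q hq).symm
  set Cv := centralizer (V : Set G) with hCv
  have : V.Normal := hVn
  have hCvn : Cv.Normal := inferInstance
  have hCvS : Cv ⊔ S ≠ ⊤ := by
    intro htop
    have hQp : IsPGroup p Q := PSolvable.pCore_isPGroup
    have hn : ∀ g : G, g ∈ normalizer ((⊥ : Subgroup G) : Set G) := fun g =>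
      (normalizer_eq_top_iff.2 (inferInstance : (⊥ : Subgroup G).Normal)).symm ▸ mem_top g
    -- elements of order prime to `p` centralize the normal closure
    have hco : ∀ x : G, (orderOf x).Coprime p → ∀ i : ℕ, ∀ w ∈ W0, w ^ p ^ i = 1 →
        x * w * x⁻¹ = w := by
      intro x hx i
      induction i with
      | zero => intro w _ hw; rw [pow_zero, pow_one] at hw; subst hw; simp
      | succ i ih =>
        intro w hw hwi
        have h1 := ih (w ^ p) (pow_mem hw p) (by rw [← pow_mul, ← pow_succ']; exact hwi)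
        set a := x * w * x⁻¹ * w⁻¹ with ha
        have hxw : x * w * x⁻¹ ∈ W0 := hW0n.conj_mem w hw x
        have haV : a ∈ V := ⟨mul_mem hxw (inv_mem hw), by
          rw [ha, (show Commute (x * w * x⁻¹) w⁻¹ from hW0c _ hxw _ (inv_mem hw)).mul_pow, conj_pow,
            h1, inv_pow, mul_inv_cancel]⟩
        have hxC : x ∈ Cv := d.coprime_mem htop hx
        have h3 : a ∈ (⊥ : Subgroup G) := by
          refine mem_of_stable (d := w) hx (hn x) (hn a)
            ((IsPGroup.iff_orderOf.1 hQp) ⟨a, hVQ haV⟩ |>.imp fun k hk => by rwa [orderOf_mk] at hk)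
            (by rw [ha]; group) ?_
          rw [mem_bot, ← mem_centralizer_iff.1 hxC a haV, mul_inv_cancel_right, mul_inv_cancel]
        rwa [mem_bot, ha, mul_inv_eq_one] at h3
    obtain ⟨e, he⟩ := (hQp.to_le (hWc.trans inf_le_left) : IsPGroup p W0).exists_card_eq
    haveI : (centralizer (W0 : Set G)).Normal := inferInstance
    have hle : ⊤ ≤ centralizer (W0 : Set G) ⊔ S := by
      intro g _
      set C0 := centralizer (W0 : Set G)
      obtain ⟨P, hP⟩ := d.sylow
      let π := QuotientGroup.mk' C0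
      have hquot : IsPGroup p (G ⧸ C0) := by
        rintro ⟨y⟩
        obtain ⟨k, hk⟩ := Transfer.exists_pow_coprime (p := p) y
        refine ⟨k, (QuotientGroup.eq_one_iff (y ^ p ^ k)).2 (mem_centralizer_iff.2 fun w hw => ?_)⟩
        have h1 := hco _ hk e w hw (by
          have h2 : (⟨w, hw⟩ : W0) ^ p ^ e = 1 := by rw [← he]; exact pow_card_eq_one'
          simpa using congrArg Subtype.val h2)
        exact (mul_inv_eq_iff_eq_mul.1 h1).symm
      have hPπ : ((P.mapSurjective (QuotientGroup.mk'_surjective C0)) : Subgroup (G ⧸ C0)) = ⊤ :=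
        ((P.mapSurjective (QuotientGroup.mk'_surjective C0)).is_maximal'
          (hquot.to_subgroup ⊤) le_top).symm
      have hg : π g ∈ (P : Subgroup G).map π := by
        rw [← Sylow.coe_mapSurjective (QuotientGroup.mk'_surjective C0), hPπ]; exact mem_top _
      obtain ⟨t, ht, hte⟩ := hg
      have h4 : g * t⁻¹ ∈ C0 := (QuotientGroup.eq_one_iff _).1 (by
        show π _ = 1
        rw [map_mul, map_inv, hte, mul_inv_cancel])
      have h5 := mul_mem_sup h4 (hP ▸ ht : t ∈ S)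
      rwa [inv_mul_cancel_right] at h5
    refine d.ncen ⟨fun z hz g => ?_⟩
    obtain ⟨c, hc, s, hs, rfl⟩ := mem_sup_of_normal_left.1 (hle (mem_top g))
    rw [show c * s * z * (c * s)⁻¹ = c * (s * z * s⁻¹) * c⁻¹ by group,
      mem_centralizer_iff.1 hz.2 s hs, mul_inv_cancel_right,
      ← mem_centralizer_iff.1 hc z (subset_normalClosure hz), mul_inv_cancel_right]
    exact hz
  have hinf : Cv ⊓ S ≤ Q := d.inf_le_core hCvS
  have hCvM : Cv ≤ M := d.le_M hCvS
  -- replacement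
  have hVS : V ≤ S := hVQ.trans hQS
  have hAV : ∀ A ∈ maxEl p S, A ⊓ V = V ⊓ centralizer (A : Set G) := fun A hA =>
    le_antisymm (fun v hv => ⟨hv.2, el_le_centralizer hA.2.1 hv.1⟩) fun v hv =>
      ⟨le_of_maxEl hA (el_mono hVel inf_le_left) (inf_le_left.trans hVS)
        (inf_le_right : V ⊓ centralizer (A : Set G) ≤ _) hv, hv.1⟩
  have hstar : ∀ A ∈ maxEl p S, IsElementaryAbelian p ((A ⊓ Cv) ⊔ V) ∧
      Nat.card ↥((A ⊓ Cv) ⊔ V) * Nat.card ↥(A ⊓ V) = Nat.card ↥(A ⊓ Cv) * Nat.card V := by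
    intro A hA
    have hc : A ⊓ Cv ≤ centralizer (V : Set G) := inf_le_right
    refine ⟨el_sup (el_mono hA.2.1 inf_le_left) hVel hc, ?_⟩
    have h1 := PushingUp.card_sup_mul_card_inf_of_commute hc
    have h2 : A ⊓ Cv ⊓ V = A ⊓ V := le_antisymm (inf_le_inf_right _ inf_le_left)
      (le_inf (le_inf inf_le_left (inf_le_right.trans (hVQ.trans hQV))) inf_le_right)
    rw [h2] at h1
    exact h1
  have hoff : ∀ A ∈ maxEl p S, Nat.card ↥(A ⊓ Cv) * Nat.card V ≤
      Nat.card A * Nat.card ↥(V ⊓ centralizer (A : Set G)) := fun A hA => by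
    rw [← hAV A hA, ← (hstar A hA).2]
    exact Nat.mul_le_mul_right _
      (hA.2.2 _ (sup_le (inf_le_left.trans hA.1) hVS) (hstar A hA).1)
  have hexistsQ : ∀ A ∈ maxEl p S, A ≤ Q → V ≤ A := fun A hA hAQ =>
    le_of_maxEl hA hVel hVS fun v hv => mem_centralizer_iff.2 fun a ha =>
      mem_centralizer_iff.1 (hVc hv).2 a (hAQ ha)
  -- some largest elementary subgroup is outside `Q`
  have hout : ∃ A ∈ maxEl p S, ¬ A ≤ Q := by
    by_contra hall
    push Not at hall
    have hVZ : V ≤ zMax p S := fun v hv => ⟨hVS hv, mem_sInf.2 fun A hA =>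
      hexistsQ A hA (hall A hA) hv⟩
    obtain ⟨A₀, hA₀⟩ := exists_maxEl (p := p) S
    have hZn : (zMax p S).Normal := by
      refine ⟨fun x hx g => ?_⟩
      have hxQ : x ∈ Q := hall A₀ hA₀ (zMax_le hA₀ hx)
      refine ⟨hQS ((inferInstance : Q.Normal).conj_mem x hxQ g), mem_sInf.2 fun A hA => ?_⟩
      have hA' : A.map (MulAut.conj g⁻¹).toMonoidHom ∈ maxEl p S := by
        refine ⟨?_, el_map _ hA.2.1, fun X hX hX' => ?_⟩
        · rintro _ ⟨a, ha, rfl⟩
          exact hQS ((inferInstance : Q.Normal).conj_mem a (hall A hA ha) g⁻¹)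
        · rw [card_map_of_injective (MulAut.conj g⁻¹).injective]
          exact hA.2.2 X hX hX'
      obtain ⟨a, ha, he⟩ := zMax_le hA' hx
      rw [← he]
      simpa [mul_assoc] using ha
    set Cz := centralizer (zMax p S : Set G) with hCz
    have hCzn : Cz.Normal := inferInstance
    have hCzS : Cz ⊔ S ≠ ⊤ := fun h => hCvS (top_unique (h.ge.trans (sup_le_sup_right
      (centralizer_le hVZ) S)))
    have e : bMax p S = Q ⊓ Cz := le_antisymm
      (le_inf (fun x hx => d.inf_le_core hCzS ⟨hx.2, hx.1⟩) inf_le_right)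
      (inf_le_inf_right _ hQS)
    exact d.nk (kSub_normal (e ▸ (inferInstance : (Q ⊓ Cz).Normal)))
  exact ⟨V, hVn, hVel, hVQ, hQV, hinf, hCvM, fun v hv h => mem_zMax (hVS hv) (hVp v hv) h, hAV, hstar,
    hexistsQ, hoff, hout⟩

theorem Pre.exists_enlarged {S M V : Subgroup G} (d : Pre p S M) (m : Module1 p S M V)
    (hbound : ∀ A ∈ maxEl p S, Nat.card A * Nat.card ↥(V ⊓ centralizer (A : Set G)) ≤
      Nat.card ↥(A ⊓ centralizer (V : Set G)) * Nat.card V) :
    ∃ W Kc : Subgroup G, Module2 p S V W Kc := by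
  set Q := pCore p G with hQ
  have hQn : Q.Normal := @Subgroup.normal_of_characteristic _ _ _ PSolvable.pCore_characteristic
  have := m.normalV
  have hQS : Q ≤ S := d.core_le
  set 𝒬 : Set (Subgroup G) := {A | A ∈ maxEl p S ∧ A ≤ Q} with h𝒬
  set Y : Subgroup G := Q ⊓ sInf 𝒬 with hY
  have hA' : ∀ A ∈ maxEl p S, (A ⊓ centralizer (V : Set G)) ⊔ V ∈ 𝒬 := by
    intro A hA
    have hsub : (A ⊓ centralizer (V : Set G)) ⊔ V ≤ Q :=
      sup_le (fun a ha => m.inf ⟨ha.2, hA.1 ha.1⟩) m.leQ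
    refine ⟨⟨hsub.trans hQS, (m.star A hA).1, fun X hX hX' => (hA.2.2 X hX hX').trans ?_⟩, hsub⟩
    refine Nat.le_of_mul_le_mul_right ?_ (Nat.card_pos (α := ↥(A ⊓ V)))
    rw [(m.star A hA).2, m.inter A hA]
    exact hbound A hA
  have hYA : ∀ A ∈ 𝒬, Y ≤ A := fun A hA => inf_le_right.trans (sInf_le hA)
  obtain ⟨A₁, hA₁, hA₁Q⟩ := m.exists_not_le
  have hYel : IsElementaryAbelian p Y := el_mono (hA' A₁ hA₁).1.2.1 (hYA _ (hA' A₁ hA₁))
  have hVY : V ≤ Y := le_inf m.leQ (le_sInf fun A hA => m.of_le A hA.1 hA.2)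
  have hZY : zMax p S ≤ Y := le_inf ((zMax_le (hA' A₁ hA₁).1).trans (hA' A₁ hA₁).2)
    (le_sInf fun A hA => zMax_le hA.1)
  have hYn : Y.Normal := by
    refine ⟨fun x hx g => ⟨hQn.conj_mem x hx.1 g, mem_sInf.2 fun A hA => ?_⟩⟩
    have hA2 : A.map (MulAut.conj g⁻¹).toMonoidHom ∈ 𝒬 := by
      have hsub : A.map (MulAut.conj g⁻¹).toMonoidHom ≤ Q := by
        rintro _ ⟨a, ha, rfl⟩
        exact hQn.conj_mem a (hA.2 ha) g⁻¹
      refine ⟨⟨hsub.trans hQS, el_map _ hA.1.2.1, fun X hX hX' => ?_⟩, hsub⟩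
      rw [card_map_of_injective (MulAut.conj g⁻¹).injective]
      exact hA.1.2.2 X hX hX'
    obtain ⟨a, ha, he⟩ := hYA _ hA2 hx
    rw [← he]
    simpa [mul_assoc] using ha
  -- the kernel of the action on `Y / V`
  let Kc : Subgroup G :=
    { carrier := {g | ∀ y ∈ Y, g * y * g⁻¹ * y⁻¹ ∈ V}
      one_mem' := fun y _ => by simp
      mul_mem' := fun {a b} ha hb y hy => by
        have h1 := mul_mem (ha _ (hYn.conj_mem y hy b)) (hb y hy)
        simpa [mul_assoc] using h1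
      inv_mem' := fun {a} ha y hy => by
        have h1 := inv_mem (ha _ (hYn.conj_mem y hy a⁻¹))
        simpa [mul_assoc] using h1 }
  have hKn : Kc.Normal := by
    refine ⟨fun a ha g y hy => ?_⟩
    have h1 := m.normalV.conj_mem _ (ha _ (hYn.conj_mem y hy g⁻¹)) g
    simpa [mul_assoc] using h1
  have hAK : ∀ A ∈ maxEl p S, A ≤ Kc := by
    intro A hA x hx y hy
    have hy' := hYA _ (hA' A hA) hy
    rw [← SetLike.mem_coe, coe_mul_of_left_le_normalizer_right _ V le_normalizer_of_normal] at hy'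
    obtain ⟨a, ha, v, hv, rfl⟩ := Set.mem_mul.1 hy'
    have hxa : x * a * x⁻¹ = a := by
      rw [el_comm hA.2.1 hx ha.1, mul_inv_cancel_right]
    have e : x * (a * v) * x⁻¹ * (a * v)⁻¹ = a * (x * v * x⁻¹ * v⁻¹) * a⁻¹ := by
      calc x * (a * v) * x⁻¹ * (a * v)⁻¹ = (x * a * x⁻¹) * (x * v * x⁻¹ * v⁻¹) * a⁻¹ := by group
        _ = _ := by rw [hxa]
    rw [e]
    exact m.normalV.conj_mem _ (mul_mem (m.normalV.conj_mem v hv x) (inv_mem hv)) a
  have htop : Kc ⊔ S = ⊤ := d.sup_eq_top fun hle =>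
    hA₁Q fun a ha => hle ⟨hAK A₁ hA₁ ha, hA₁.1 ha⟩
  refine ⟨V ⊔ zMax p S, Kc, rfl, ?_, el_mono hYel (sup_le hVY hZY),
    sup_le m.leQ (hZY.trans inf_le_left), hKn, htop, fun g hg w hw => hg w (sup_le hVY hZY hw)⟩
  have := zMax_char (p := p) (S := S)
  refine normalizer_eq_top_iff.1 (top_unique (htop.ge.trans (sup_le ?_ ?_)))
  · intro g hg
    refine mem_normalizer_iff_map_conj_eq.2 (Subgroup.eq_of_le_of_card_ge ?_
      (card_map_of_injective (MulAut.conj g).injective).ge)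
    rintro _ ⟨w, hw, rfl⟩
    have h1 := mul_mem ((le_sup_left : V ≤ V ⊔ zMax p S) (hg w (sup_le hVY hZY hw))) hw
    simpa [mul_assoc] using h1
  · intro x hx
    refine mem_normalizer_iff_map_conj_eq.2 ?_
    have h1 : V.map (MulAut.conj x).toMonoidHom = V :=
      mem_normalizer_iff_map_conj_eq.1 (normalizer_eq_top_iff.2 m.normalV ▸ mem_top x)
    have h2 : (zMax p S).map (MulAut.conj x).toMonoidHom = zMax p S := by
      have : ((zMax p S).subgroupOf S).Normal := inferInstance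
      exact mem_normalizer_iff_map_conj_eq.1 ((normal_subgroupOf_iff_le_normalizer zMax_le_S).1 this hx)
    rw [Subgroup.map_sup]
    exact congrArg₂ (· ⊔ ·) h1 h2

end Cfsg.Agent.Lib.FocalChar
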